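import Groth.Agent.DefLift.Natural
import Groth.Agent.DefFun.FirstOrder
import Mathlib

/-!
# Retractions of a first order thickening on an affine piece
-/

set_option autoImplicit false
set_option linter.style.haveILetI false
set_option linter.unusedSectionVars false
set_option backward.isDefEq.respectTransparency false
set_option backward.isDefEq.respectTransparency.types false
set_option maxHeartbeats 1000000

universe u

open CategoryTheory CategoryTheory.Limits AlgebraicGeometry Opposite TopologicalSpace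

noncomputable section

namespace Groth.Agent.HfinProper

open Groth.Agent.QC Groth.Agent.DefLift
open Groth.Agent.DefFun (kerI)

section Ring

open MvPolynomial

variable {k σ A R : Type u} [Field k] [CommRing A] [CommRing R] [Algebra k A] [Algebra (MvPolynomial σ k) A]
  [IsScalarTower k (MvPolynomial σ k) A] (kR : k →+* R) (q : R →+* A) (hq : Function.Surjective q)
  (hsq : ∀ x y, q x = 0 → q y = 0 → x * y = 0) (hkq : ∀ c, q (kR c) = algebraMap k A c)

include hq hsq hkq in
/-- A lift whose failure on the ideal is given by derivations corrects to a section. -/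
theorem exists_section {d : ℕ} (e : Fin d → R) (he : ∀ l, q (e l) = 0) (g : MvPolynomial σ k →+* R)
    (hg : ∀ p, q (g p) = algebraMap (MvPolynomial σ k) A p) (hgC : ∀ c, g (C c) = kR c)
    (hA : Function.Surjective (algebraMap (MvPolynomial σ k) A)) (D : Fin d → Derivation k (MvPolynomial σ k) A)
    (hD : ∀ i ∈ kerI (MvPolynomial σ k) A, ∃ a : Fin d → R, g i = ∑ l, e l * a l ∧ ∀ l, q (a l) = D l i) :
    ∃ h : A →+* R, (∀ a, q (h a) = a) ∧ ∀ c, h (algebraMap k A c) = kR c := by
  classical
  choose s hs using hq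
  let ε : Fin d → A → R := fun l a => e l * s a
  have hε : ∀ l (a : A) r, q r = a → e l * r = ε l a := fun l a r hr => by
    rw [← sub_eq_zero, ← mul_sub]
    exact hsq _ _ (he l) (by rw [map_sub, hr, hs, sub_self])
  let h₀ : MvPolynomial σ k →+* R := eval₂Hom kR fun v => g (X v) - ∑ l, ε l (D l (X v))
  have hqε : ∀ l a, q (ε l a) = 0 := fun l a => by simp only [ε, map_mul, he, zero_mul]
  have hform : ∀ p, h₀ p = g p - ∑ l, ε l (D l p) := fun p => by
    induction p using MvPolynomial.induction_on with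
    | C c =>
      rw [eval₂Hom_C, hgC, Finset.sum_eq_zero (fun l _ => ?_), sub_zero]
      rw [← hε l _ 0 (by rw [map_zero, ← MvPolynomial.algebraMap_eq, Derivation.map_algebraMap]), mul_zero]
    | add p p' hp hp' =>
      have he' : ∀ l, ε l (D l (p + p')) = ε l (D l p) + ε l (D l p') := fun l => by
        rw [← hε l _ (s (D l p) + s (D l p')) (by rw [map_add, hs, hs, map_add]), mul_add]
      rw [map_add, map_add, hp, hp', Finset.sum_congr rfl fun l _ => he' l, Finset.sum_add_distrib]
      abel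
    | mul_X p v hp =>
      have hv : h₀ (X v) = g (X v) - ∑ l, ε l (D l (X v)) := eval₂Hom_X' _ _ _
      have he' : ∀ l, ε l (D l (p * X v)) = g p * ε l (D l (X v)) + g (X v) * ε l (D l p) := fun l => by
        rw [← hε l _ (g p * s (D l (X v)) + g (X v) * s (D l p)) (by
          rw [map_add, map_mul, map_mul, hg, hg, hs, hs, (D l).leibniz, Algebra.smul_def, Algebra.smul_def])]
        simp only [ε]
        ring
      have h0 : (∑ l, ε l (D l p)) * (∑ l, ε l (D l (X v))) = 0 :=
        hsq _ _ (by rw [map_sum]; exact Finset.sum_eq_zero fun l _ => hqε l _)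
          (by rw [map_sum]; exact Finset.sum_eq_zero fun l _ => hqε l _)
      rw [map_mul, map_mul, hp, hv, Finset.sum_congr rfl fun l _ => he' l, Finset.sum_add_distrib,
        ← Finset.mul_sum, ← Finset.mul_sum]
      linear_combination h0
  have hker : RingHom.ker (algebraMap (MvPolynomial σ k) A) ≤ RingHom.ker h₀ := fun i hi => by
    obtain ⟨a, ha, ha'⟩ := hD i hi
    rw [RingHom.mem_ker, hform, ha, sub_eq_zero]
    exact Finset.sum_congr rfl fun l _ => hε l _ _ (ha' l)
  refine ⟨(algebraMap (MvPolynomial σ k) A).liftOfSurjective hA ⟨h₀, hker⟩, fun a => ?_, fun c => ?_⟩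
  · obtain ⟨p, rfl⟩ := hA a
    rw [show (algebraMap (MvPolynomial σ k) A).liftOfSurjective hA ⟨h₀, hker⟩ (algebraMap _ A p) = h₀ p from
      RingHom.congr_fun (RingHom.liftOfSurjective_comp (algebraMap (MvPolynomial σ k) A) hA ⟨h₀, hker⟩) p,
      hform, map_sub, hg, map_sum, Finset.sum_eq_zero fun l _ => hqε l _, sub_zero]
  · rw [IsScalarTower.algebraMap_apply k (MvPolynomial σ k) A,
      show (algebraMap (MvPolynomial σ k) A).liftOfSurjective hA ⟨h₀, hker⟩
        (algebraMap _ A (algebraMap k (MvPolynomial σ k) c)) = h₀ (algebraMap k _ c) from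
      RingHom.congr_fun (RingHom.liftOfSurjective_comp (algebraMap (MvPolynomial σ k) A) hA ⟨h₀, hker⟩) _,
      MvPolynomial.algebraMap_eq, eval₂Hom_C]

end Ring

section Scheme

variable {k : Type u} [Field k]

/-- The scalars on an open of a scheme over a field. -/
def strK {T : Scheme.{u}} (a : T ⟶ Spec (CommRingCat.of k)) (O : T.Opens) : k →+* Γ(T, O) :=
  (a.appLE ⊤ O le_top).hom.comp (Scheme.ΓSpecIso (CommRingCat.of k)).inv.hom

theorem fromSpec_comp_eq {T : Scheme.{u}} {R : CommRingCat.{u}} (a : T ⟶ Spec R) {O : T.Opens} (hO : IsAffineOpen O) :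
    hO.fromSpec ≫ a = Spec.map ((Scheme.ΓSpecIso R).inv ≫ a.appLE ⊤ O le_top) := by
  rw [← IsAffineOpen.SpecMap_appLE_fromSpec a (isAffineOpen_top _) hO le_top, IsAffineOpen.fromSpec_top,
    Scheme.isoSpec_Spec_inv, Spec.map_comp]

variable {T₀ T : Scheme.{u}} {i : T₀ ⟶ T} [IsClosedImmersion i] (hsq : IsSqZero i) (x : T₀ ⟶ Spec (CommRingCat.of k))
  (a : T ⟶ Spec (CommRingCat.of k)) (hia : i ≫ a = x)

include hia in
theorem downVal_strK (C : T₀.Opens) (c : k) : downVal hsq C (strK a (up hsq C) c) = strK x C c := by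
  subst hia
  show (a.appLE ⊤ (up hsq C) le_top ≫ i.appLE (up hsq C) C (preimage_up hsq C).ge).hom
    ((Scheme.ΓSpecIso (CommRingCat.of k)).inv c) = _
  rw [Scheme.Hom.appLE_comp_appLE]
  rfl

theorem resO_strK {T : Scheme.{u}} (a : T ⟶ Spec (CommRingCat.of k)) {O O' : T.Opens} (h : O' ≤ O) (c : k) :
    resO T h (strK a O c) = strK a O' c := by
  show (a.appLE ⊤ O le_top ≫ T.presheaf.map (homOfLE h).op).hom ((Scheme.ΓSpecIso (CommRingCat.of k)).inv c) = _
  rw [Scheme.Hom.appLE_map]
  rfl

include hia in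
/-- A section of rings on an affine piece gives a retraction on that piece. -/
theorem exists_piece_retract {U : T₀.Opens} (hU : IsAffineOpen U) (h : Γ(T₀, U) →+* Γ(T, up hsq U))
    (hh : ∀ s, downVal hsq U (h s) = s) (hk : ∀ c, h (strK x U c) = strK a (up hsq U) c) :
    ∃ b : (up hsq U).toScheme ⟶ T₀, b ≫ x = (up hsq U).ι ≫ a ∧
      (i ∣_ up hsq U) ≫ b = (i ⁻¹ᵁ up hsq U).ι ≫ 𝟙 T₀ := by
  have hW : IsAffineOpen (up hsq U) := isAffineOpen_up hsq ⟨U, hU⟩
  have hW0 : IsAffineOpen (i ⁻¹ᵁ up hsq U) := hW.preimage i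
  refine ⟨hW.isoSpec.hom ≫ Spec.map (CommRingCat.ofHom h) ≫ hU.fromSpec, ?_, ?_⟩
  · have hι : hW.isoSpec.hom ≫ hW.fromSpec = (up hsq U).ι := by
      rw [IsAffineOpen.isoSpec_hom, IsAffineOpen.toSpecΓ_fromSpec]
    rw [← hι, Category.assoc, Category.assoc, Category.assoc, fromSpec_comp_eq x hU, fromSpec_comp_eq a hW,
      ← Spec.map_comp]
    congr 2
    ext c
    exact hk c
  · have hn : (i ∣_ up hsq U) ≫ hW.isoSpec.hom = hW0.isoSpec.hom ≫ Spec.map (i.app (up hsq U)) := by
      rw [← cancel_mono hW.fromSpec, Category.assoc, Category.assoc, Scheme.Hom.app_eq_appLE,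
        IsAffineOpen.SpecMap_appLE_fromSpec i hW hW0 le_rfl, IsAffineOpen.isoSpec_hom, IsAffineOpen.isoSpec_hom,
        IsAffineOpen.toSpecΓ_fromSpec, morphismRestrict_ι, ← Category.assoc, IsAffineOpen.toSpecΓ_fromSpec]
    have he : CommRingCat.ofHom h ≫ i.app (up hsq U) = T₀.presheaf.map (homOfLE (preimage_up hsq U).le).op := by
      ext s
      refine Eq.trans ?_ (congrArg (resO T₀ (preimage_up hsq U).le) (hh s))
      rw [downVal_eq, resO_resO, resO_self]
      rfl
    rw [← Category.assoc, hn, Category.assoc, ← Spec.map_comp_assoc, he,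
      hU.map_fromSpec hW0 (homOfLE (preimage_up hsq U).le).op, IsAffineOpen.isoSpec_hom,
      IsAffineOpen.toSpecΓ_fromSpec, Category.comp_id]

end Scheme

end Groth.Agent.HfinProper
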