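import Groth.Agent.DefLift.Coord
import Groth.Agent.DefLift.Natural
import Groth.Agent.HfinProper.Retract
import Groth.Prelude.Def_ArtFun6

/-!
# Coefficients of functions killed on the closed fibre of a first order deformation
-/

set_option autoImplicit false
set_option linter.style.haveILetI false
set_option linter.unusedSectionVars false
set_option backward.isDefEq.respectTransparency false
set_option maxHeartbeats 1000000

universe u

open CategoryTheory CategoryTheory.Limits AlgebraicGeometry Opposite TopologicalSpace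

noncomputable section

namespace Groth.Agent.HfinProper

open Groth.Agent.QC Groth.Agent.DefLift ArtFun ArtFun.Art Groth.Agent.ArtKit

variable {k : Type u} [Field k] {X : Scheme.{u}} [X.Over (Spec (CommRingCat.of k))]

section Base

variable {A B : Art k k} (ζ : DefSch X (X ↘ Spec (CommRingCat.of k)) A)

theorem i_comp_specOver : ζ.i ≫ ζ.f ≫ specOver A = X ↘ Spec (CommRingCat.of k) := by
  rw [← Category.assoc, ζ.i_f, Category.assoc, specRes_comp, comp_specRes_base]

theorem baseFun_algebraMap (O : ζ.total.Opens) (c : k) :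
    baseFun ζ O (algebraMap k A c) = strK (ζ.f ≫ specOver A) O c := by
  show ζ.f.appLE ⊤ O le_top ((Scheme.ΓSpecIso (CommRingCat.of A)).inv (algebraMap k A c)) =
    (ζ.f ≫ specOver A).appLE ⊤ O le_top ((Scheme.ΓSpecIso (CommRingCat.of k)).inv c)
  rw [← Scheme.Hom.appLE_comp_appLE ζ.f (specOver A) ⊤ ⊤ O le_top le_top, CommRingCat.comp_apply,
    show (specOver A).appLE ⊤ ⊤ le_top = (specOver A).app ⊤ from (Scheme.Hom.app_eq_appLE _).symm]
  exact congrArg _ (congr($(Scheme.ΓSpecIso_inv_naturality (CommRingCat.ofHom (ofBase A).toAlgHom.toRingHom)) c))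

theorem baseFun_baseChange (g : A ⟶ B) {O : ζ.total.Opens} {O' : (ζ.baseChange g).total.Opens}
    (e : O' ≤ pullback.fst ζ.f (specMap g) ⁻¹ᵁ O) (a : A) :
    (pullback.fst ζ.f (specMap g)).appLE O O' e (baseFun ζ O a) = baseFun (ζ.baseChange g) O' (g a) := by
  have hsq : pullback.fst ζ.f (specMap g) ≫ ζ.f = (ζ.baseChange g).f ≫ specMap g := pullback.condition
  change (ζ.f.appLE _ _ _ ≫ (pullback.fst ζ.f (specMap g)).appLE _ _ e) _ = _
  rw [Scheme.Hom.appLE_comp_appLE]
  simp only [hsq]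
  rw [← Scheme.Hom.appLE_comp_appLE (ζ.baseChange g).f (specMap g) ⊤ ⊤ O' le_top le_top, CommRingCat.comp_apply,
    show (specMap g).appLE ⊤ ⊤ le_top = (specMap g).app ⊤ from (Scheme.Hom.app_eq_appLE _).symm]
  exact congrArg _ (congr($(Scheme.ΓSpecIso_inv_naturality (CommRingCat.ofHom g.toAlgHom.toRingHom)) a)).symm

theorem up_le_baseChange (hs : IsSqZero ζ.i) (g : A ⟶ B) (hs' : IsSqZero (ζ.baseChange g).i) (C : X.Opens) :
    up hs' C ≤ pullback.fst ζ.f (specMap g) ⁻¹ᵁ up hs C := by
  rintro p ⟨z, hz, rfl⟩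
  exact ⟨z, hz, by rw [← DefSch.baseChange_i_fst ζ g]; rfl⟩

theorem downVal_baseChange (hs : IsSqZero ζ.i) (g : A ⟶ B) (hs' : IsSqZero (ζ.baseChange g).i) (C : X.Opens)
    (r : Γ(ζ.total, up hs C)) :
    downVal hs' C ((pullback.fst ζ.f (specMap g)).appLE _ _ (up_le_baseChange ζ hs g hs' C) r) = downVal hs C r := by
  change ((pullback.fst ζ.f (specMap g)).appLE _ _ _ ≫ (ζ.baseChange g).i.appLE _ _ _) r = ζ.i.appLE _ _ _ r
  rw [Scheme.Hom.appLE_comp_appLE]
  have key : ∀ (h₁ : X ⟶ ζ.total) (_ : h₁ = ζ.i) (e : C ≤ h₁ ⁻¹ᵁ up hs C),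
      h₁.appLE (up hs C) C e r = ζ.i.appLE (up hs C) C (preimage_up hs C).ge r := by
    rintro _ rfl e; rfl
  exact key _ (DefSch.baseChange_i_fst ζ g) _

end Base

variable {d : ℕ} (ζ : DefSch X (X ↘ Spec (CommRingCat.of k)) (dualN k k d))

/-- The coordinates of the conormal module. -/
def coordHom (j : Fin d) : Omega.conormal ζ.i ⟶ Coh.structureModule X :=
  (exists_coord ζ (LinearMap.proj j)).choose

/-- The coefficient of `ε_j` in a function killed on the closed fibre. -/
def coef (j : Fin d) (C : X.Opens) (r : Γ(ζ.total, up (isSqZero_defSch ζ dualN_sqzero) C)) : Γ(X, C) :=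
  (coordHom ζ j).app C (kv (isSqZero_defSch ζ dualN_sqzero) C r)

theorem coef_add (j : Fin d) {C : X.Opens} {r r' : Γ(ζ.total, up (isSqZero_defSch ζ dualN_sqzero) C)}
    (hr : downVal (isSqZero_defSch ζ dualN_sqzero) C r = 0)
    (hr' : downVal (isSqZero_defSch ζ dualN_sqzero) C r' = 0) :
    coef ζ j C (r + r') = coef ζ j C r + coef ζ j C r' := by
  rw [coef, kv_add _ hr hr', map_add]
  rfl

theorem coef_mul (j : Fin d) {C : X.Opens} (c : Γ(ζ.total, up (isSqZero_defSch ζ dualN_sqzero) C))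
    {r : Γ(ζ.total, up (isSqZero_defSch ζ dualN_sqzero) C)}
    (hr : downVal (isSqZero_defSch ζ dualN_sqzero) C r = 0) :
    coef ζ j C (c * r) = downVal (isSqZero_defSch ζ dualN_sqzero) C c * coef ζ j C r := by
  rw [coef, kv_mul _ c hr, Scheme.Modules.Hom.app_smul]
  rfl

theorem coef_res (j : Fin d) {C C' : X.Opens} (h : C' ≤ C)
    {r : Γ(ζ.total, up (isSqZero_defSch ζ dualN_sqzero) C)}
    (hr : downVal (isSqZero_defSch ζ dualN_sqzero) C r = 0) :
    coef ζ j C' (resO ζ.total (up_mono _ h) r) = resO X h (coef ζ j C r) := by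
  rw [coef, ← kv_res _ h hr, ← app_res]
  rfl

theorem exists_expansion (C : X.affineOpens) (r : Γ(ζ.total, up (isSqZero_defSch ζ dualN_sqzero) C.1))
    (hr : downVal (isSqZero_defSch ζ dualN_sqzero) C.1 r = 0) :
    ∃ c : Fin d → Γ(ζ.total, up (isSqZero_defSch ζ dualN_sqzero) C.1),
      r = ∑ j, baseFun ζ _ (epsN j) * c j ∧
        ∀ j, downVal (isSqZero_defSch ζ dualN_sqzero) C.1 (c j) = coef ζ j C.1 r := by
  classical
  let hs := isSqZero_defSch ζ dualN_sqzero
  choose c hc using fun j => downVal_surjective hs C (coef ζ j C.1 r)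
  refine ⟨c, ?_, hc⟩
  have hz : ∀ j, downVal hs C.1 (baseFun ζ _ (epsN j) * c j) = 0 := fun j => by
    rw [map_mul, downVal_baseFun ζ hs C.1 _ rfl, zero_mul]
  have hz' : downVal hs C.1 (∑ j, baseFun ζ _ (epsN j) * c j) = 0 := by
    rw [map_sum]; exact Finset.sum_eq_zero fun j _ => hz j
  have hkv : kv hs C.1 (∑ j, baseFun ζ _ (epsN j) * c j) = ∑ j, coef ζ j C.1 r • genVal ζ hs C.1 (epsN j) := by
    have hsum : ∀ s : Finset (Fin d), kv hs C.1 (∑ j ∈ s, baseFun ζ _ (epsN j) * c j) =
        ∑ j ∈ s, coef ζ j C.1 r • genVal ζ hs C.1 (epsN j) := fun s => by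
      induction s using Finset.induction_on with
      | empty => rw [Finset.sum_empty, Finset.sum_empty, kv_zero]
      | insert j s hj ih =>
        rw [Finset.sum_insert hj, Finset.sum_insert hj, kv_add hs (hz j)
          (by rw [map_sum]; exact Finset.sum_eq_zero fun l _ => hz l), ih, mul_comm (baseFun ζ _ _),
          kv_mul hs _ (downVal_baseFun ζ hs C.1 _ rfl), hc]
        rfl
    exact hsum _
  obtain ⟨co, hco⟩ := exists_repr ζ epsN (fun _ => rfl) mem_span_epsN hs C (kv hs C.1 r)
  have hval : ∀ j, coef ζ j C.1 r = co j := fun j => by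
    rw [coef, hco, map_sum]
    refine (Finset.sum_eq_single (M := Γ(Coh.structureModule X, C.1)) j (fun l _ hl => ?_) (by simp)).trans ?_
    · rw [Scheme.Modules.Hom.app_smul, coordHom, (exists_coord ζ (LinearMap.proj j)).choose_spec.2,
        LinearMap.proj_apply, Pi.single_eq_of_ne (Ne.symm hl)]
      simp only [scalOn, map_zero]
      exact smul_zero _
    · rw [Scheme.Modules.Hom.app_smul, coordHom, (exists_coord ζ (LinearMap.proj j)).choose_spec.2,
        LinearMap.proj_apply, Pi.single_eq_same]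
      simp only [scalOn, map_one]
      exact mul_one (show Γ(X, C.1) from co j)
  refine sub_eq_zero.1 (kv_injective hs (by rw [map_sub, hr, hz', sub_self]) ?_)
  rw [kv_sub hs hr hz', hkv, hco, sub_eq_zero]
  exact Finset.sum_congr rfl fun j _ => by rw [hval]

end Groth.Agent.HfinProper
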