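import Groth.Agent.CohFinite.Proper
import Groth.Agent.QC.IdealMod
import Groth.Agent.QC.Coherent
import Groth.Agent.Devissage.Power

/-!
# A bound on compatible tuples of classes on a proper scheme over a field

Finite modules over the members of an affine cover, compared in modules over the intersections by
maps which are injective after localisation: the compatible tuples form a space of finite dimension.
-/

set_option autoImplicit false
set_option backward.isDefEq.respectTransparency false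
set_option backward.isDefEq.respectTransparency.types false
set_option linter.style.haveILetI false
set_option maxHeartbeats 1000000

universe u

open CategoryTheory CategoryTheory.Limits AlgebraicGeometry TopologicalSpace Opposite

noncomputable section

namespace Groth.Agent.HfinProper

open Groth.Agent.QC

attribute [local instance] Abelian.hasFiniteBiproducts

variable {X : Scheme.{u}}

/-- The module with sections `M` over the affine open `U`, pushed forward. -/
abbrev pushT {U : X.Opens} (hU : IsAffineOpen U) (M : ModuleCat.{u} Γ(X, U)) : X.Modules :=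
  (Scheme.Modules.pushforward hU.fromSpec).obj (tilde M)

/-- An element as a global section. -/
abbrev topP {U : X.Opens} (hU : IsAffineOpen U) (M : ModuleCat.{u} Γ(X, U)) (m : M) : Γ(pushT hU M, ⊤) :=
  tilde.toOpen M ⊤ m

theorem topP_bijective {U : X.Opens} (hU : IsAffineOpen U) (M : ModuleCat.{u} Γ(X, U)) :
    Function.Bijective (topP hU M) :=
  ConcreteCategory.bijective_of_isIso (tilde.toOpen M ⊤)

/-- An element as a section over the open. -/
def secP {U : X.Opens} (hU : IsAffineOpen U) (M : ModuleCat.{u} Γ(X, U)) :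
    M →ₗ[Γ(X, U)] Γ(pushT hU M, U) where
  toFun m := tilde.toOpen M (hU.fromSpec ⁻¹ᵁ U) m
  map_add' a b := map_add (tilde.toOpen M (hU.fromSpec ⁻¹ᵁ U)).hom a b
  map_smul' r m := by
    refine ((tilde.toOpen M (hU.fromSpec ⁻¹ᵁ U)).hom.map_smul r m).trans ?_
    refine (Scheme.Modules.smul_Spec_def r _).trans ?_
    let y : Γ(tilde M, hU.fromSpec ⁻¹ᵁ U) := tilde.toOpen M (hU.fromSpec ⁻¹ᵁ U) m
    show _ • y = (hU.fromSpec.app U).hom r • y
    rw [hU.fromSpec_app_self]
    congr 1

theorem secP_bijective {U : X.Opens} (hU : IsAffineOpen U) (M : ModuleCat.{u} Γ(X, U)) :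
    Function.Bijective (secP hU M) := by
  have hbij : ∀ O : (Spec Γ(X, U)).Opens, O = ⊤ → Function.Bijective (tilde.toOpen M O) := by
    rintro O rfl
    exact ConcreteCategory.bijective_of_isIso _
  exact hbij _ hU.fromSpec_preimage_self

theorem res_topP {U : X.Opens} (hU : IsAffineOpen U) (M : ModuleCat.{u} Γ(X, U)) (m : M) :
    res (pushT hU M) le_top (topP hU M m) = secP hU M m :=
  congr($(tilde.toOpen_res M ⊤ (hU.fromSpec ⁻¹ᵁ U) (homOfLE le_top)) m)

theorem pushT_injective_res {U : X.Opens} (hU : IsAffineOpen U) (M : ModuleCat.{u} Γ(X, U)) (V : X.Opens) :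
    Function.Injective (res (pushT hU M) (inf_le_left : V ⊓ U ≤ V)) := by
  show Function.Injective ((tilde M).presheaf.map ((Opens.map hU.fromSpec.base).map
    (homOfLE (inf_le_left : V ⊓ U ≤ V))).op)
  have : IsIso ((Opens.map hU.fromSpec.base).map (homOfLE (inf_le_left : V ⊓ U ≤ V))) :=
    ⟨homOfLE (fun x hx => ⟨hx, hU.fromSpec_preimage_self.ge (Opens.mem_top x)⟩),
      Subsingleton.elim _ _, Subsingleton.elim _ _⟩
  exact (ConcreteCategory.bijective_of_isIso _).1

/-- A semilinear map gives a morphism of the pushed modules, injective near the points where it is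
injective after localisation. -/
theorem exists_pushHom [QuasiSeparatedSpace X] {U W : X.Opens} (hU : IsAffineOpen U) (hW : IsAffineOpen W) (hle : W ≤ U)
    (M : ModuleCat.{u} Γ(X, U)) (G : ModuleCat.{u} Γ(X, W)) (a : M →+ G)
    (ha : ∀ (r : Γ(X, U)) (m : M), a (r • m) = resO X hle r • a m) :
    ∃ φ : pushT hU M ⟶ pushT hW G, (∀ m, φ.app ⊤ (topP hU M m) = topP hW G (a m)) ∧
      ((∀ f : Γ(X, U), X.basicOpen f ≤ W → ∀ m, a m = 0 → ∃ n : ℕ, f ^ n • m = 0) →
        ∀ f : Γ(X, U), X.basicOpen f ≤ W → ∀ s : Γ(pushT hU M, X.basicOpen f),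
          φ.app (X.basicOpen f) s = 0 → s = 0) := by
  let ρ : Γ(X, U) ⟶ Γ(X, W) := X.presheaf.map (homOfLE hle).op
  let Q : (Spec Γ(X, U)).Modules := (Scheme.Modules.pushforward (Spec.map ρ)).obj (tilde G)
  let g : M →ₗ[Γ(X, U)] Γ(Q, ⊤) :=
    { toFun := fun m => (tilde.toOpen G ⊤ (a m) : Γ(tilde G, ⊤))
      map_add' := fun m m' => by
        show tilde.toOpen G ⊤ (a (m + m')) = _
        rw [map_add, map_add]
      map_smul' := fun r m => by
        show tilde.toOpen G ⊤ (a (r • m)) = r • (show Γ(Q, ⊤) from tilde.toOpen G ⊤ (a m))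
        rw [ha, map_smul, Scheme.Modules.smul_Spec_def, Scheme.Modules.smul_Spec_def]
        refine congrArg (· • (show Γ(tilde G, ⊤) from tilde.toOpen G ⊤ (a m))) ?_
        show ((Scheme.ΓSpecIso Γ(X, W)).inv ≫ (Spec Γ(X, W)).presheaf.map (⊤ : Opens _).leTop.op) (ρ r) =
          (Spec.map ρ).app ⊤ ((Spec Γ(X, U)).presheaf.map (⊤ : Opens _).leTop.op ((Scheme.ΓSpecIso Γ(X, U)).inv r))
        rw [show (⊤ : (Spec Γ(X, U)).Opens).leTop = 𝟙 _ from rfl, show (⊤ : (Spec Γ(X, W)).Opens).leTop = 𝟙 _ from rfl,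
          op_id, op_id, CategoryTheory.Functor.map_id, CategoryTheory.Functor.map_id, Category.comp_id]
        exact congr($(Scheme.ΓSpecIso_inv_naturality ρ) r) }
  let gh : M ⟶ (modulesSpecToSheaf.obj Q).presheaf.obj (op ⊤) := (ModuleCat.ofHom g :)
  let σ : tilde M ⟶ Q := tilde.map gh ≫ Q.fromTildeΓ
  have hσ : ∀ m, σ.app ⊤ (tilde.toOpen M ⊤ m) = (tilde.toOpen G ⊤ (a m) : Γ(tilde G, ⊤)) := fun m => by
    show Q.fromTildeΓ.app ⊤ ((tilde.map gh).app ⊤ (tilde.toOpen M ⊤ m)) = _
    rw [show (tilde.map gh).app ⊤ (tilde.toOpen M ⊤ m) = tilde.toOpen _ ⊤ (gh m) from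
      congr($(tilde.toOpen_map_app gh ⊤) m)]
    refine (congr($(Scheme.Modules.toOpen_fromTildeΓ_app Q ⊤) (gh m))).trans ?_
    exact congr($((modulesSpecToSheaf.obj Q).obj.map_id _) (gh m))
  have hj : Spec.map ρ ≫ hU.fromSpec = hW.fromSpec := hU.map_fromSpec hW (homOfLE hle).op
  let φ : pushT hU M ⟶ pushT hW G := (Scheme.Modules.pushforward hU.fromSpec).map σ ≫
    (Scheme.Modules.pushforwardComp (Spec.map ρ) hU.fromSpec).hom.app (tilde G) ≫
      (Scheme.Modules.pushforwardCongr hj).hom.app (tilde G)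
  have htop : ∀ m, φ.app ⊤ (topP hU M m) = topP hW G (a m) := fun m => by
    show (tilde G).presheaf.map _ (σ.app ⊤ (tilde.toOpen M ⊤ m)) = _
    rw [hσ]
    exact congr($(tilde.toOpen_res G ⊤ ⊤ _) (a m))
  refine ⟨φ, htop, fun hsep f hf s hs => ?_⟩
  haveI : QuasiCompact hU.fromSpec := inferInstance
  have hMq : Coh.IsQCoh (pushT hU M) := isQCoh_pushforward (hM := isQCoh_tilde M) hU.fromSpec
  have hGq : Coh.IsQCoh (pushT hW G) := isQCoh_pushforward (hM := isQCoh_tilde G) hW.fromSpec
  obtain ⟨n, t, ht⟩ := (isLoc_of_isQCoh hU (hM := hMq)).exists_extend f s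
  obtain ⟨m, rfl⟩ := (secP_bijective hU M).2 t
  have hfu : IsUnit (resO X (X.basicOpen_le f) f) := RingedSpace.isUnit_res_basicOpen _ f
  have h1 : φ.app (X.basicOpen f) (res (pushT hU M) (X.basicOpen_le f) (secP hU M m)) =
      res (pushT hW G) hf (secP hW G (a m)) := by
    rw [← res_topP hU M m, ← res_topP hW G (a m), res_res, res_res, ← app_res φ, htop]
  have hD : X.basicOpen (resO X hle f) = X.basicOpen f :=
    (X.basicOpen_res f (homOfLE hle).op).trans (inf_eq_right.2 hf)
  have h2 : res (pushT hW G) (X.basicOpen_le (resO X hle f)) (secP hW G (a m)) = 0 := by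
    have h3 : res (pushT hW G) hf (secP hW G (a m)) = 0 := by
      rw [← h1, ht, Scheme.Modules.Hom.app_smul, hs, smul_zero]
    rw [← res_res _ hD.le hf, h3, map_zero]
  obtain ⟨N, hN⟩ := (isLoc_of_isQCoh hW (hM := hGq)).exists_pow_smul_eq_zero _ _ h2
  rw [← map_pow, ← LinearMap.map_smul, ← ha] at hN
  obtain ⟨N', hN'⟩ := hsep f hf (f ^ N • m) ((secP_bijective hW G).1 (hN.trans (map_zero _).symm))
  rw [smul_smul, ← pow_add] at hN'
  have h4 := congrArg (res (pushT hU M) (X.basicOpen_le f)) (congrArg (secP hU M) hN')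
  rw [map_smul, res_smul, ht, smul_smul, map_pow, ← pow_add, map_zero, map_zero] at h4
  exact (hfu.pow _).smul_eq_zero.1 h4

theorem eq_zero_of_components {J : Type} [Fintype J] (N : J → X.Modules) {V : X.Opens} (t : Γ(⨁ N, V))
    (ht : ∀ i, (biproduct.π N i).app V t = 0) : t = 0 := by
  let φ : (⨁ N ⟶ ⨁ N) →+ Γ(⨁ N, V) := AddMonoidHom.mk' (fun f => f.app V t) fun a b => rfl
  have h := (map_sum φ (fun i => biproduct.π N i ≫ biproduct.ι N i) Finset.univ).symm.trans
    (congrArg φ biproduct.total)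
  refine (show φ (𝟙 _) = t from rfl).symm.trans (h.symm.trans (Finset.sum_eq_zero fun i _ => ?_))
  show (biproduct.ι N i).app V ((biproduct.π N i).app V t) = 0
  rw [ht, map_zero]

/-- The module of compatible families. -/
theorem exists_equalizer {J K : Type} [Fintype J] [Fintype K] (N : J → X.Modules) (S : K → X.Modules) (s t : K → J)
    (A : ∀ p, N (s p) ⟶ S p) (B : ∀ p, N (t p) ⟶ S p) (hN : ∀ i, Coh.IsQCoh (N i)) (hS : ∀ p, Coh.IsQCoh (S p)) :
    ∃ (F : X.Modules) (π : ∀ i, F ⟶ N i), Coh.IsQCoh F ∧ (∀ p, π (s p) ≫ A p = π (t p) ≫ B p) ∧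
      (∀ (V : X.Opens) (z : Γ(F, V)), (∀ i, (π i).app V z = 0) → z = 0) ∧
      ∀ n : ∀ i, Γ(N i, ⊤), (∀ p, (A p).app ⊤ (n (s p)) = (B p).app ⊤ (n (t p))) →
        ∃ z : Γ(F, ⊤), ∀ i, (π i).app ⊤ z = n i := by
  classical
  let Δ : ⨁ N ⟶ ⨁ S := biproduct.lift fun p => biproduct.π N (s p) ≫ A p - biproduct.π N (t p) ≫ B p
  refine ⟨kernel Δ, fun i => kernel.ι Δ ≫ biproduct.π N i,
    isQCoh_kernel (Devissage.isQCoh_biproduct N hN) (Devissage.isQCoh_biproduct S hS) Δ, fun p => ?_,
    fun V z hz => ?_, fun n hn => ?_⟩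
  · have h := congrArg (fun f => f ≫ biproduct.π S p) (kernel.condition Δ)
    rw [Category.assoc, zero_comp, biproduct.lift_π, Preadditive.comp_sub, sub_eq_zero] at h
    rw [Category.assoc, Category.assoc]
    exact h
  · exact (mono_iff_app_injective _).1 (inferInstance : Mono (kernel.ι Δ)) V
      ((eq_zero_of_components N _ hz).trans (map_zero _).symm)
  · let w : Γ(⨁ N, ⊤) := ∑ i, (biproduct.ι N i).app ⊤ (n i)
    have hw : ∀ i, (biproduct.π N i).app ⊤ w = n i := fun i => by
      simp only [w, map_sum]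
      rw [Finset.sum_eq_single i (fun i' _ hi' => ?_) (fun h => absurd (Finset.mem_univ i) h)]
      · exact congr($(biproduct.ι_π_self N i).app ⊤ _)
      · exact congr($(biproduct.ι_π_ne N hi').app ⊤ _)
    obtain ⟨z, hz⟩ := (mem_range_kernel_app Δ ⊤ w).2 (eq_zero_of_components S _ fun p => by
      have h := congr($(biproduct.lift_π
        (fun p => biproduct.π N (s p) ≫ A p - biproduct.π N (t p) ≫ B p) p).app ⊤ w)
      refine h.trans ?_
      show (A p).app ⊤ ((biproduct.π N (s p)).app ⊤ w) - (B p).app ⊤ ((biproduct.π N (t p)).app ⊤ w) = 0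
      rw [hw, hw, hn p, sub_self])
    exact ⟨z, fun i => (congrArg ((biproduct.π N i).app ⊤) hz).trans (hw i)⟩

section Glue

variable {k : Type u} [Field k] (x : X ⟶ Spec (CommRingCat.of k))

/-- A scalar as a function on an open. -/
def scalU (V : X.Opens) : k →+* Γ(X, V) := (resO X (le_top : V ≤ ⊤)).comp (Coh.toGlobal x)

/-- Compatible tuples on a proper scheme are finite in number up to linear dependence. -/
theorem exists_bound [IsProper x] {ι : Type} [Fintype ι] (U : ι → X.Opens) (hU : ∀ i, IsAffineOpen (U i))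
    (hW : ∀ i l, IsAffineOpen (U i ⊓ U l)) (hcov : ∀ p, ∃ i, p ∈ U i) (M : ∀ i, ModuleCat.{u} Γ(X, U i))
    [∀ i, Module.Finite Γ(X, U i) (M i)] (G : ∀ i l, ModuleCat.{u} Γ(X, U i ⊓ U l))
    (a : ∀ i l, M i →+ G i l) (b : ∀ i l, M l →+ G i l)
    (ha : ∀ i l (r : Γ(X, U i)) (m : M i), a i l (r • m) = resO X (inf_le_left : U i ⊓ U l ≤ U i) r • a i l m)
    (hb : ∀ i l (r : Γ(X, U l)) (m : M l), b i l (r • m) = resO X (inf_le_right : U i ⊓ U l ≤ U l) r • b i l m)
    (hsep : ∀ i l (f : Γ(X, U i)), X.basicOpen f ≤ U i ⊓ U l → ∀ m, a i l m = 0 → ∃ n : ℕ, f ^ n • m = 0) :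
    ∃ N, ∀ (d : ℕ) (m : Fin d → ∀ i, M i), (∀ j i l, a i l (m j i) = b i l (m j l)) →
      ∃ W : Submodule k (Fin d → k), d ≤ Module.finrank k W + N ∧
        ∀ lam ∈ W, ∀ i, ∑ j, scalU x (U i) (lam j) • m j i = 0 := by
  classical
  letI : X.Over (Spec (CommRingCat.of k)) := ⟨x⟩
  haveI : IsProper (X ↘ Spec (CommRingCat.of k)) := ‹IsProper x›
  haveI : IsLocallyNoetherian X := LocallyOfFiniteType.isLocallyNoetherian x
  haveI : CompactSpace X := QuasiCompact.compactSpace_of_compactSpace x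
  haveI : QuasiSeparatedSpace X := inferInstance
  let N : ι → X.Modules := fun i => pushT (hU i) (M i)
  let S : ι × ι → X.Modules := fun p => pushT (hW p.1 p.2) (G p.1 p.2)
  choose A hA hA' using fun p : ι × ι =>
    exists_pushHom (hU p.1) (hW p.1 p.2) inf_le_left (M p.1) (G p.1 p.2) (a p.1 p.2) (ha p.1 p.2)
  choose B hB _ using fun p : ι × ι =>
    exists_pushHom (hU p.2) (hW p.1 p.2) inf_le_right (M p.2) (G p.1 p.2) (b p.1 p.2) (hb p.1 p.2)
  have hN : ∀ i, Coh.IsQCoh (N i) := fun i => isQCoh_pushforward (hM := isQCoh_tilde (M i)) (hU i).fromSpec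
  have hS : ∀ p, Coh.IsQCoh (S p) := fun p =>
    isQCoh_pushforward (hM := isQCoh_tilde (G p.1 p.2)) (hW p.1 p.2).fromSpec
  obtain ⟨F, π, hFq, hπ, hFext, hFlift⟩ := exists_equalizer N S Prod.fst Prod.snd A B hN hS
  have hinj : ∀ l, Function.Injective ((π l).app (U l)) := fun l => by
    rw [injective_iff_map_eq_zero]
    intro z hz
    refine hFext _ z fun i => pushT_injective_res (hU i) (M i) (U l) ?_
    rw [map_zero]
    refine section_eq_of_locally fun q hq => ?_
    obtain ⟨f, hf, hqf⟩ := (hU i).exists_basicOpen_le (V := U l ⊓ U i) ⟨q, hq⟩ hq.2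
    refine ⟨X.basicOpen f, hf, hqf, ?_⟩
    rw [res_res, map_zero]
    have hfW : X.basicOpen f ≤ U i ⊓ U l := hf.trans (le_of_eq (inf_comm _ _))
    refine hA' (i, l) (fun g hg m hm => hsep i l g hg m hm) f hfW _ ?_
    have h := congr($(hπ (i, l)).app (U l) z)
    simp only [Scheme.Modules.Hom.comp_app, ConcreteCategory.comp_apply] at h
    rw [← app_res, h, hz, map_zero, map_zero]
  have hFc : Coh.IsCoh F := ⟨hFq, isFT_iff_exists_hasFinGen.mpr fun p => by
    obtain ⟨l, hl⟩ := hcov p
    haveI : IsNoetherianRing Γ(X, U l) := IsLocallyNoetherian.component_noetherian ⟨U l, hU l⟩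
    haveI : Module.Finite Γ(X, U l) Γ(N l, U l) :=
      Module.Finite.equiv (LinearEquiv.ofBijective (secP (hU l) (M l)) (secP_bijective (hU l) (M l)))
    haveI : Module.Finite Γ(X, U l) Γ(F, U l) := Module.Finite.of_injective (appₗ (π l) (U l)) (hinj l)
    exact ⟨U l, hl, hasFinGen_of_finite (hU l) (hM := hFq)⟩⟩
  haveI : Module.Finite k (Coh.HH X F 0) := CohFinite.finite_proper (A := k) X F hFc 0
  obtain ⟨e, he⟩ := CohFinite.exists_zero_equiv k F
  refine ⟨Module.finrank k (Coh.HH X F 0), fun d m hm => ?_⟩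
  have hz : ∀ j, ∃ z : Γ(F, ⊤), ∀ i, (π i).app ⊤ z = topP (hU i) (M i) (m j i) := fun j =>
    hFlift (fun i => topP (hU i) (M i) (m j i)) fun p => by rw [hA, hB, hm j p.1 p.2]
  choose z hz using hz
  let L : (Fin d → k) →ₗ[k] Coh.HH X F 0 := Fintype.linearCombination k fun j => e.symm (z j)
  refine ⟨LinearMap.ker L, ?_, fun lam hlam i => ?_⟩
  · have h1 := LinearMap.finrank_range_add_finrank_ker L
    have h2 := Submodule.finrank_le (LinearMap.range L)
    rw [Module.finrank_fin_fun] at h1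
    omega
  · have h1 : e (∑ j, lam j • e.symm (z j)) = 0 := by
      rw [show (∑ j, lam j • e.symm (z j)) = L lam from (Fintype.linearCombination_apply k _ lam).symm,
        LinearMap.mem_ker.1 hlam, map_zero]
    simp only [map_sum, he, AddEquiv.apply_symm_apply] at h1
    have h2 := congrArg (res (N i) (le_top : U i ≤ ⊤)) (congrArg ((π i).app ⊤) h1)
    simp only [map_sum, map_zero, Scheme.Modules.Hom.app_smul, hz, res_smul] at h2
    simp only [N, res_topP, ← LinearMap.map_smul] at h2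
    rw [← map_sum] at h2
    exact (secP_bijective (hU i) (M i)).1 (h2.trans (map_zero _).symm)

end Glue

end Groth.Agent.HfinProper
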