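import Groth.Agent.HfinProper.Pair
import Groth.Agent.HfinProper.Retract
import Groth.Agent.QC.Basic
import Groth.Agent.S4363

/-!
# Presented affine pieces of a scheme of finite type over a field
-/

set_option autoImplicit false
set_option linter.style.haveILetI false
set_option linter.unusedSectionVars false
set_option backward.isDefEq.respectTransparency false
set_option backward.isDefEq.respectTransparency.types false
set_option maxHeartbeats 1000000

universe u

open CategoryTheory CategoryTheory.Limits AlgebraicGeometry Opposite TopologicalSpace MvPolynomial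

noncomputable section

namespace Groth.Agent.HfinProper

open Groth.Agent.QC
open Groth.Agent.DefFun (kerI)

variable {k : Type u} [Field k] {X : Scheme.{u}} [X.Over (Spec (CommRingCat.of k))]

/-- Functions on an open form an algebra over the ground field. -/
instance algScal (O : X.Opens) : Algebra k Γ(X, O) := (strK (X ↘ Spec (CommRingCat.of k)) O).toAlgebra

theorem resO_scal {O O' : X.Opens} (h : O' ≤ O) (c : k) : resO X h (algebraMap k Γ(X, O) c) = algebraMap k _ c :=
  resO_strK _ h c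

variable (k X) in
/-- An affine open with a presentation of its functions. -/
structure Piece : Type (u + 1) where
  /-- the open -/
  U : X.Opens
  hU : IsAffineOpen U
  /-- the variables -/
  σ : Type u
  fin : Finite σ
  /-- the presentation -/
  hom : MvPolynomial σ k →ₐ[k] Γ(X, U)
  surj : Function.Surjective hom

theorem exists_piece [LocallyOfFiniteType (X ↘ Spec (CommRingCat.of k))] {U : X.Opens} (hU : IsAffineOpen U) :
    ∃ p : Piece k X, p.U = U := by
  have hft : ((Scheme.ΓSpecIso (CommRingCat.of k)).inv ≫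
      (X ↘ Spec (CommRingCat.of k)).appLE ⊤ U le_top).hom.FiniteType :=
    RingHom.FiniteType.comp
      (LocallyOfFiniteType.finiteType_appLE _ (isAffineOpen_top _) hU le_top)
      (RingHom.FiniteType.of_surjective _ (Scheme.ΓSpecIso (CommRingCat.of k)).symm.commRingCatIsoToRingEquiv.surjective)
  haveI : Algebra.FiniteType k Γ(X, U) := hft
  obtain ⟨ι, _, f, hf⟩ := Algebra.FiniteType.iff_quotient_mvPolynomial'.1 ‹Algebra.FiniteType k Γ(X, U)›
  exact ⟨⟨U, hU, ι, inferInstance, f, hf⟩, rfl⟩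

variable (p q : Piece k X)

instance : Finite p.σ := p.fin

instance algPres : Algebra (MvPolynomial p.σ k) Γ(X, p.U) := p.hom.toRingHom.toAlgebra

instance : IsScalarTower k (MvPolynomial p.σ k) Γ(X, p.U) :=
  IsScalarTower.of_algebraMap_eq fun c => (p.hom.commutes c).symm

instance (priority := low) algFst : Algebra Γ(X, p.U) Γ(X, p.U ⊓ q.U) := (resO X inf_le_left).toAlgebra

instance (priority := low) algSnd : Algebra Γ(X, q.U) Γ(X, p.U ⊓ q.U) := (resO X inf_le_right).toAlgebra

instance (priority := low) : IsScalarTower k Γ(X, p.U) Γ(X, p.U ⊓ q.U) :=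
  IsScalarTower.of_algebraMap_eq fun c => (resO_scal inf_le_left c).symm

instance (priority := low) : IsScalarTower k Γ(X, q.U) Γ(X, p.U ⊓ q.U) :=
  IsScalarTower.of_algebraMap_eq fun c => (resO_scal inf_le_right c).symm

instance (priority := low) algPresFst : Algebra (MvPolynomial p.σ k) Γ(X, p.U ⊓ q.U) :=
  ((resO X inf_le_left).comp p.hom.toRingHom).toAlgebra

instance (priority := low) algPresSnd : Algebra (MvPolynomial q.σ k) Γ(X, p.U ⊓ q.U) :=
  ((resO X inf_le_right).comp q.hom.toRingHom).toAlgebra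

instance (priority := low) : IsScalarTower (MvPolynomial p.σ k) Γ(X, p.U) Γ(X, p.U ⊓ q.U) :=
  IsScalarTower.of_algebraMap_eq fun _ => rfl

instance (priority := low) : IsScalarTower (MvPolynomial q.σ k) Γ(X, q.U) Γ(X, p.U ⊓ q.U) :=
  IsScalarTower.of_algebraMap_eq fun _ => rfl

instance (priority := low) : IsScalarTower k (MvPolynomial p.σ k) Γ(X, p.U ⊓ q.U) :=
  IsScalarTower.of_algebraMap_eq fun c =>
    ((congrArg (resO X inf_le_left) (p.hom.commutes c)).trans (resO_scal inf_le_left c)).symm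

instance (priority := low) : IsScalarTower k (MvPolynomial q.σ k) Γ(X, p.U ⊓ q.U) :=
  IsScalarTower.of_algebraMap_eq fun c =>
    ((congrArg (resO X inf_le_right) (q.hom.commutes c)).trans (resO_scal inf_le_right c)).symm

instance (priority := low) algJoint : Algebra (MvPolynomial (p.σ ⊕ q.σ) k) Γ(X, p.U ⊓ q.U) :=
  (MvPolynomial.aeval (Sum.elim (fun v => resO X (inf_le_left : p.U ⊓ q.U ≤ p.U) (p.hom (.X v)))
    fun v => resO X (inf_le_right : p.U ⊓ q.U ≤ q.U) (q.hom (.X v)))).toRingHom.toAlgebra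

instance (priority := low) : IsScalarTower k (MvPolynomial (p.σ ⊕ q.σ) k) Γ(X, p.U ⊓ q.U) :=
  IsScalarTower.of_algebraMap_eq fun c => (AlgHom.commutes (MvPolynomial.aeval _) c).symm

theorem joint_inl (r : MvPolynomial p.σ k) :
    algebraMap (MvPolynomial (p.σ ⊕ q.σ) k) Γ(X, p.U ⊓ q.U) (rename Sum.inl r) =
      algebraMap (MvPolynomial p.σ k) Γ(X, p.U ⊓ q.U) r := by
  change _ = (IsScalarTower.toAlgHom k (MvPolynomial p.σ k) Γ(X, p.U ⊓ q.U)) r
  refine (aeval_rename _ _ _).trans (AlgHom.congr_fun (MvPolynomial.algHom_ext fun v => ?_) r)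
  rw [aeval_X]
  rfl

theorem joint_inr (r : MvPolynomial q.σ k) :
    algebraMap (MvPolynomial (p.σ ⊕ q.σ) k) Γ(X, p.U ⊓ q.U) (rename Sum.inr r) =
      algebraMap (MvPolynomial q.σ k) Γ(X, p.U ⊓ q.U) r := by
  change _ = (IsScalarTower.toAlgHom k (MvPolynomial q.σ k) Γ(X, p.U ⊓ q.U)) r
  refine (aeval_rename _ _ _).trans (AlgHom.congr_fun (MvPolynomial.algHom_ext fun v => ?_) r)
  rw [aeval_X]
  rfl

theorem joint_surjective [IsSeparated (X ↘ Spec (CommRingCat.of k))] (ps : List (Piece k X))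
    (hcov : ∀ z, ∃ r ∈ ps, z ∈ r.U) :
    Function.Surjective (algebraMap (MvPolynomial (p.σ ⊕ q.σ) k) Γ(X, p.U ⊓ q.U)) := by
  let Us : Fin (p :: q :: ps).length → X.Opens := fun n => ((p :: q :: ps).get n).U
  have h := ((S4363.result (X ↘ Spec (CommRingCat.of k)) Us (fun n => ((p :: q :: ps).get n).hU)
    (eq_top_iff.2 fun z _ => by
      obtain ⟨r, hr, hz⟩ := hcov z
      obtain ⟨n, hn⟩ := List.get_of_mem (List.mem_cons_of_mem p (List.mem_cons_of_mem q hr))
      exact Opens.mem_iSup.2 ⟨n, by show z ∈ ((p :: q :: ps).get n).U; rw [hn]; exact hz⟩)).1 inferInstance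
    ⟨0, by simp⟩ ⟨1, by simp⟩).2
  rw [← RingHom.range_eq_top]
  refine top_unique (h.ge.trans (Subring.closure_le.2 ?_))
  rintro z (⟨s, rfl⟩ | ⟨s, rfl⟩)
  · obtain ⟨r, rfl⟩ := p.surj s
    exact ⟨rename Sum.inl r, joint_inl p q r⟩
  · obtain ⟨r, rfl⟩ := q.surj s
    exact ⟨rename Sum.inr r, joint_inr p q r⟩

theorem formallyEtale_snd (hW : IsAffineOpen (p.U ⊓ q.U)) : Algebra.FormallyEtale Γ(X, q.U) Γ(X, p.U ⊓ q.U) := by
  let ρ : Γ(X, q.U) ⟶ Γ(X, p.U ⊓ q.U) := X.presheaf.map (homOfLE (inf_le_right : p.U ⊓ q.U ≤ q.U)).op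
  haveI : IsOpenImmersion (Spec.map ρ ≫ q.hU.fromSpec) := by
    rw [q.hU.map_fromSpec hW (homOfLE (inf_le_right : p.U ⊓ q.U ≤ q.U)).op]
    infer_instance
  haveI : IsOpenImmersion (Spec.map ρ) := IsOpenImmersion.of_comp _ q.hU.fromSpec
  have he : ρ.hom.Etale := (HasRingHomProperty.Spec_iff (P := @Etale)).1 inferInstance
  exact he.formallyEtale

/-- The classes on a piece. -/
abbrev clsMod : ModuleCat.{u} Γ(X, p.U) := ModuleCat.of _ (Cls k (MvPolynomial p.σ k) Γ(X, p.U))

/-- The classes on an intersection. -/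
abbrev pairMod : ModuleCat.{u} Γ(X, p.U ⊓ q.U) :=
  ModuleCat.of _ (PairCls (k := k) (σ := p.σ) (τ := q.σ) Γ(X, p.U) Γ(X, q.U) (joint_inl p q) (joint_inr p q))

theorem finite_clsMod [IsLocallyNoetherian X] : Module.Finite Γ(X, p.U) (clsMod p) := by
  haveI : IsNoetherianRing Γ(X, p.U) := IsLocallyNoetherian.component_noetherian ⟨p.U, p.hU⟩
  exact finite_cls

theorem exists_pow_smul_cls [IsSeparated (X ↘ Spec (CommRingCat.of k))] (ps : List (Piece k X))
    (hcov : ∀ z, ∃ r ∈ ps, z ∈ r.U) (hW : IsAffineOpen (p.U ⊓ q.U)) (f : Γ(X, p.U))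
    (hf : X.basicOpen f ≤ p.U ⊓ q.U) (m : clsMod p)
    (hm : leftMap (A' := Γ(X, q.U)) (joint_inl p q) (joint_inr p q) m = 0) : ∃ n : ℕ, f ^ n • m = 0 := by
  haveI := formallyEtale_snd p q hW
  letI : Algebra Γ(X, p.U) Γ(X, X.basicOpen f) := (resO X (X.basicOpen_le f)).toAlgebra
  letI : Algebra Γ(X, p.U ⊓ q.U) Γ(X, X.basicOpen f) := (resO X hf).toAlgebra
  letI : Algebra (MvPolynomial p.σ k) Γ(X, X.basicOpen f) :=
    ((resO X (X.basicOpen_le f)).comp p.hom.toRingHom).toAlgebra
  haveI : IsScalarTower k Γ(X, p.U) Γ(X, X.basicOpen f) :=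
    IsScalarTower.of_algebraMap_eq fun c => (resO_scal (X.basicOpen_le f) c).symm
  haveI : IsScalarTower (MvPolynomial p.σ k) Γ(X, p.U) Γ(X, X.basicOpen f) :=
    IsScalarTower.of_algebraMap_eq fun _ => rfl
  haveI : IsScalarTower k (MvPolynomial p.σ k) Γ(X, X.basicOpen f) :=
    IsScalarTower.of_algebraMap_eq fun c =>
      ((congrArg (resO X (X.basicOpen_le f)) (p.hom.commutes c)).trans (resO_scal (X.basicOpen_le f) c)).symm
  haveI : IsScalarTower Γ(X, p.U) Γ(X, p.U ⊓ q.U) Γ(X, X.basicOpen f) :=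
    IsScalarTower.of_algebraMap_eq fun s => (resO_resO hf inf_le_left s).symm
  haveI : IsLocalization.Away f Γ(X, X.basicOpen f) := p.hU.isLocalization_basicOpen f
  exact exists_pow_smul_eq_zero (joint_inl p q) (joint_inr p q) q.surj (joint_surjective p q ps hcov)
    (C := Γ(X, X.basicOpen f)) f m hm

end Groth.Agent.HfinProper
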