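import Groth.Agent.HfinProper.Coeff
import Groth.Agent.HfinProper.Glue
import Groth.Agent.HfinProper.Pieces

/-!
# Few first order deformations fail to be locally trivial
-/

set_option autoImplicit false
set_option linter.style.haveILetI false
set_option linter.unusedSectionVars false
set_option backward.isDefEq.respectTransparency false
set_option backward.isDefEq.respectTransparency.types false
set_option maxHeartbeats 1000000

universe u

open CategoryTheory CategoryTheory.Limits AlgebraicGeometry Opposite TopologicalSpace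

noncomputable section

namespace Groth.Agent.HfinProper

open Groth.Agent.QC Groth.Agent.DefLift ArtFun ArtFun.Art Groth.Agent.ArtKit
open Groth.Agent.DefFun (kerI)

variable {k : Type u} [Field k]

/-- The map of `k[ε]` algebras given by a tuple of vectors. -/
def dualNMap {d d' : ℕ} (lam : Fin d' → Fin d → k) : dualN k k d ⟶ dualN k k d' :=
  ⟨Art.tszeMap (LinearMap.pi fun l => formOf (lam l)), AlgHom.ext fun _ => rfl⟩

theorem dualNMap_epsN {d d' : ℕ} (lam : Fin d' → Fin d → k) (j : Fin d) :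
    dualNMap lam (epsN j) = ∑ l, algebraMap k (dualN k k d') (lam l j) * epsN l := by
  show Art.tszeMap (LinearMap.pi fun l => formOf (lam l))
      (TrivSqZeroExt.inr (Pi.single j 1) : TrivSqZeroExt k (Fin d → k)) =
    ∑ l, algebraMap k (TrivSqZeroExt k (Fin d' → k)) (lam l j) * TrivSqZeroExt.inr (Pi.single l 1)
  refine TrivSqZeroExt.ext ?_ (funext fun l => ?_)
  · simp [Art.tszeMap, TrivSqZeroExt.fst_sum]
  · simp [Art.tszeMap, TrivSqZeroExt.snd_sum, TrivSqZeroExt.algebraMap_eq_inl, Finset.sum_apply, Pi.single_apply,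
      formOf_apply]

variable {X : Scheme.{u}} [X.Over (Spec (CommRingCat.of k))]

/-- Local retractions of a deformation onto the closed fibre. -/
def HasLocalLifts {d : ℕ} (η : DefSch X (X ↘ Spec (CommRingCat.of k)) (dualN k k d)) : Prop :=
  ∃ (U : X → η.total.Opens) (b : ∀ z, (U z).toScheme ⟶ X), iSup U = ⊤ ∧
    (∀ z, b z ≫ (X ↘ Spec (CommRingCat.of k)) = (U z).ι ≫ η.f ≫ specOver (dualN k k d)) ∧
    ∀ z, (η.i ∣_ U z) ≫ b z = (η.i ⁻¹ᵁ U z).ι ≫ 𝟙 X

section Classes

variable {d : ℕ} (ζ : DefSch X (X ↘ Spec (CommRingCat.of k)) (dualN k k d))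

theorem exists_lift (p : Piece k X) :
    ∃ g : MvPolynomial p.σ k →+* Γ(ζ.total, up (isSqZero_defSch ζ dualN_sqzero) p.U),
      (∀ r, downVal (isSqZero_defSch ζ dualN_sqzero) p.U (g r) = algebraMap _ Γ(X, p.U) r) ∧
        ∀ c, g (MvPolynomial.C c) = strK (ζ.f ≫ specOver (dualN k k d)) _ c := by
  let hs := isSqZero_defSch ζ dualN_sqzero
  choose t ht using fun v => downVal_surjective hs ⟨p.U, p.hU⟩ (p.hom (MvPolynomial.X v))
  refine ⟨MvPolynomial.eval₂Hom (strK (ζ.f ≫ specOver (dualN k k d)) (up hs p.U)) t, fun r => ?_,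
    fun c => MvPolynomial.eval₂Hom_C _ _ c⟩
  refine RingHom.congr_fun (MvPolynomial.ringHom_ext (f := (downVal hs p.U).comp _) (g := algebraMap _ _)
    (fun c => ?_) fun v => ?_) r
  · rw [RingHom.comp_apply, MvPolynomial.eval₂Hom_C, downVal_strK hs _ _ (i_comp_specOver ζ)]
    exact (p.hom.commutes c).symm
  · rw [RingHom.comp_apply, MvPolynomial.eval₂Hom_X']
    exact ht v

/-- A chosen lift of the presentation. -/
def lift (p : Piece k X) : MvPolynomial p.σ k →+* Γ(ζ.total, up (isSqZero_defSch ζ dualN_sqzero) p.U) :=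
  (exists_lift ζ p).choose

theorem downVal_lift (p : Piece k X) (r : MvPolynomial p.σ k) :
    downVal (isSqZero_defSch ζ dualN_sqzero) p.U (lift ζ p r) = algebraMap _ Γ(X, p.U) r :=
  (exists_lift ζ p).choose_spec.1 r

theorem lift_C (p : Piece k X) (c : k) :
    lift ζ p (MvPolynomial.C c) = strK (ζ.f ≫ specOver (dualN k k d)) _ c :=
  (exists_lift ζ p).choose_spec.2 c

theorem downVal_lift_ker (p : Piece k X) (i : kerI (MvPolynomial p.σ k) Γ(X, p.U)) :
    downVal (isSqZero_defSch ζ dualN_sqzero) p.U (lift ζ p i) = 0 := by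
  rw [downVal_lift]
  exact i.2

/-- The coefficient of `ε_j` on the ideal of the presentation. -/
def phi (j : Fin d) (p : Piece k X) :
    kerI (MvPolynomial p.σ k) Γ(X, p.U) →ₗ[MvPolynomial p.σ k] Γ(X, p.U) where
  toFun i := coef ζ j p.U (lift ζ p i)
  map_add' i i' := by
    rw [Submodule.coe_add, map_add, coef_add ζ j (downVal_lift_ker ζ p i) (downVal_lift_ker ζ p i')]
  map_smul' r i := by
    rw [Submodule.coe_smul_of_tower, smul_eq_mul, map_mul, coef_mul ζ j _ (downVal_lift_ker ζ p i), downVal_lift,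
      RingHom.id_apply, Algebra.smul_def]

theorem left_eq_right (j : Fin d) (p q : Piece k X) :
    leftMap (A' := Γ(X, q.U)) (joint_inl p q) (joint_inr p q) (Submodule.Quotient.mk (phi ζ j p)) =
      rightMap (A := Γ(X, p.U)) (joint_inl p q) (joint_inr p q) (Submodule.Quotient.mk (phi ζ j q)) := by
  let hs := isSqZero_defSch ζ dualN_sqzero
  let a := ζ.f ≫ specOver (dualN k k d)
  let G : MvPolynomial (p.σ ⊕ q.σ) k →+* Γ(ζ.total, up hs (p.U ⊓ q.U)) :=
    MvPolynomial.eval₂Hom (strK a _) (Sum.elim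
      (fun v => resO ζ.total (up_mono hs inf_le_left) (lift ζ p (MvPolynomial.X v)))
      fun v => resO ζ.total (up_mono hs inf_le_right) (lift ζ q (MvPolynomial.X v)))
  have hl : ∀ r, G (MvPolynomial.rename Sum.inl r) = resO ζ.total (up_mono hs inf_le_left) (lift ζ p r) :=
    RingHom.congr_fun (MvPolynomial.ringHom_ext (f := G.comp (MvPolynomial.rename Sum.inl).toRingHom)
      (g := (resO ζ.total (up_mono hs inf_le_left)).comp (lift ζ p))
      (fun c => by simp [G, lift_C, resO_strK, a]) fun v => by simp [G])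
  have hr : ∀ r, G (MvPolynomial.rename Sum.inr r) = resO ζ.total (up_mono hs inf_le_right) (lift ζ q r) :=
    RingHom.congr_fun (MvPolynomial.ringHom_ext (f := G.comp (MvPolynomial.rename Sum.inr).toRingHom)
      (g := (resO ζ.total (up_mono hs inf_le_right)).comp (lift ζ q))
      (fun c => by simp [G, lift_C, resO_strK, a]) fun v => by simp [G])
  have hG : ∀ r, downVal hs (p.U ⊓ q.U) (G r) = algebraMap _ Γ(X, p.U ⊓ q.U) r :=
    RingHom.congr_fun (MvPolynomial.ringHom_ext (f := (downVal hs (p.U ⊓ q.U)).comp G) (g := algebraMap _ _)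
      (fun c => by
        rw [RingHom.comp_apply, MvPolynomial.eval₂Hom_C, downVal_strK hs _ _ (i_comp_specOver ζ)]
        exact IsScalarTower.algebraMap_apply k (MvPolynomial (p.σ ⊕ q.σ) k) Γ(X, p.U ⊓ q.U) c)
      (by
        rintro (v | v)
        · rw [RingHom.comp_apply, ← MvPolynomial.rename_X Sum.inl, hl, downVal_res hs inf_le_left, downVal_lift,
            joint_inl]
          rfl
        · rw [RingHom.comp_apply, ← MvPolynomial.rename_X Sum.inr, hr, downVal_res hs inf_le_right, downVal_lift,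
            joint_inr]
          rfl))
  have hG0 : ∀ i : kerI (MvPolynomial (p.σ ⊕ q.σ) k) Γ(X, p.U ⊓ q.U), downVal hs (p.U ⊓ q.U) (G i) = 0 :=
    fun i => by rw [hG]; exact i.2
  let ψ : kerI (MvPolynomial (p.σ ⊕ q.σ) k) Γ(X, p.U ⊓ q.U) →ₗ[MvPolynomial (p.σ ⊕ q.σ) k] Γ(X, p.U ⊓ q.U) :=
    { toFun := fun i => coef ζ j _ (G i)
      map_add' := fun i i' => by rw [Submodule.coe_add, map_add, coef_add ζ j (hG0 i) (hG0 i')]
      map_smul' := fun r i => by
        rw [Submodule.coe_smul_of_tower, smul_eq_mul, map_mul, coef_mul ζ j _ (hG0 i), hG, RingHom.id_apply,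
          Algebra.smul_def] }
  refine leftMap_eq_rightMap (joint_inl p q) (joint_inr p q) _ _ ψ (LinearMap.ext fun i => ?_)
    (LinearMap.ext fun i => ?_)
  · show coef ζ j _ (G (MvPolynomial.rename Sum.inl i.1)) = resO X inf_le_left (coef ζ j p.U (lift ζ p i))
    rw [hl, coef_res ζ j inf_le_left (downVal_lift_ker ζ p i)]
  · show coef ζ j _ (G (MvPolynomial.rename Sum.inr i.1)) = resO X inf_le_right (coef ζ j q.U (lift ζ q i))
    rw [hr, coef_res ζ j inf_le_right (downVal_lift_ker ζ q i)]

/-- Derivations accounting for the coefficients give a retraction over the piece. -/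
theorem exists_retract {d' : ℕ} (lam : Fin d' → Fin d → k) (p : Piece k X)
    (hD : ∀ l, ∃ D : Derivation k (MvPolynomial p.σ k) Γ(X, p.U), ∀ i : kerI (MvPolynomial p.σ k) Γ(X, p.U),
      D i = ∑ j, algebraMap k Γ(X, p.U) (lam l j) * phi ζ j p i) :
    ∃ b : (up (isSqZero_defSch (ζ.baseChange (dualNMap lam)) dualN_sqzero) p.U).toScheme ⟶ X,
      b ≫ (X ↘ Spec (CommRingCat.of k)) =
          (up (isSqZero_defSch (ζ.baseChange (dualNMap lam)) dualN_sqzero) p.U).ι ≫
            (ζ.baseChange (dualNMap lam)).f ≫ specOver (dualN k k d') ∧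
        ((ζ.baseChange (dualNMap lam)).i ∣_ up (isSqZero_defSch (ζ.baseChange (dualNMap lam)) dualN_sqzero) p.U) ≫
            b =
          ((ζ.baseChange (dualNMap lam)).i ⁻¹ᵁ
              up (isSqZero_defSch (ζ.baseChange (dualNMap lam)) dualN_sqzero) p.U).ι ≫ 𝟙 X := by
  let g := dualNMap lam
  let η := ζ.baseChange g
  let hs := isSqZero_defSch ζ dualN_sqzero
  let hs' := isSqZero_defSch η dualN_sqzero
  let a' := η.f ≫ specOver (dualN k k d')
  have hi' : η.i ≫ a' = X ↘ Spec (CommRingCat.of k) := i_comp_specOver η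
  let π : Γ(ζ.total, up hs p.U) →+* Γ(η.total, up hs' p.U) :=
    ((pullback.fst ζ.f (specMap g)).appLE _ _ (up_le_baseChange ζ hs g hs' p.U)).hom
  choose D hD using hD
  obtain ⟨h, hh, hhk⟩ := exists_section (σ := p.σ) (A := Γ(X, p.U)) (strK a' (up hs' p.U)) (downVal hs' p.U)
    (downVal_surjective hs' ⟨p.U, p.hU⟩) (fun _ _ h₁ h₂ => mul_eq_zero_of_downVal hs' h₁ h₂)
    (fun c => downVal_strK hs' _ a' hi' p.U c) (fun l => baseFun η (up hs' p.U) (epsN l))
    (fun l => downVal_baseFun η hs' p.U _ rfl) (π.comp (lift ζ p))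
    (fun r => (downVal_baseChange ζ hs g hs' p.U _).trans (downVal_lift ζ p r))
    (fun c => by
      rw [RingHom.comp_apply, lift_C, ← baseFun_algebraMap]
      refine (baseFun_baseChange ζ g (up_le_baseChange ζ hs g hs' p.U) _).trans ?_
      rw [← baseFun_algebraMap]
      exact congrArg (baseFun η _) (g.toAlgHom.commutes c))
    p.surj D (fun i hi => by
      obtain ⟨c, hc, hc'⟩ := exists_expansion ζ ⟨p.U, p.hU⟩ (lift ζ p i) (downVal_lift_ker ζ p ⟨i, hi⟩)
      refine ⟨fun l => ∑ j, strK a' (up hs' p.U) (lam l j) * π (c j), ?_, fun l => ?_⟩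
      · rw [RingHom.comp_apply, hc, map_sum]
        simp only [Finset.mul_sum]
        rw [Finset.sum_comm]
        refine Finset.sum_congr rfl fun j _ => ?_
        rw [map_mul, show π (baseFun ζ (up hs p.U) (epsN j)) = baseFun η (up hs' p.U) (g (epsN j)) from
          baseFun_baseChange ζ g (up_le_baseChange ζ hs g hs' p.U) _]
        have he : baseFun η (up hs' p.U) (g (epsN j)) =
            ∑ l, strK a' (up hs' p.U) (lam l j) * baseFun η (up hs' p.U) (epsN l) := by
          rw [show g (epsN j) = ∑ l, algebraMap k (dualN k k d') (lam l j) * epsN l from dualNMap_epsN lam j]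
          simp only [baseFun, map_sum, map_mul]
          refine Finset.sum_congr rfl fun l _ => congrArg (· * _) ?_
          exact baseFun_algebraMap η _ _
        rw [he, Finset.sum_mul]
        exact Finset.sum_congr rfl fun l _ => by ring
      · rw [map_sum]
        rw [hD l ⟨i, hi⟩]
        refine Finset.sum_congr rfl fun j _ => ?_
        rw [map_mul, downVal_strK hs' _ a' hi',
          show downVal hs' p.U (π (c j)) = downVal hs p.U (c j) from downVal_baseChange ζ hs g hs' p.U _, hc']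
        rfl)
  exact exists_piece_retract hs' _ a' hi' p.hU h hh hhk

end Classes

/-- Up to a bounded number of dimensions, families of first order deformations are locally trivial. -/
theorem exists_bound_lifts [IsProper (X ↘ Spec (CommRingCat.of k))] :
    ∃ N, ∀ (d : ℕ) (ζ : DefSch X (X ↘ Spec (CommRingCat.of k)) (dualN k k d)),
      ∃ W : Submodule k (Fin d → k), d ≤ Module.finrank k W + N ∧
        ∀ (d' : ℕ) (lam : Fin d' → Fin d → k), (∀ l, lam l ∈ W) →
          HasLocalLifts (ζ.baseChange (dualNMap lam)) := by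
  classical
  haveI : CompactSpace X := QuasiCompact.compactSpace_of_compactSpace (X ↘ Spec (CommRingCat.of k))
  haveI : IsLocallyNoetherian X := LocallyOfFiniteType.isLocallyNoetherian (X ↘ Spec (CommRingCat.of k))
  haveI : X.IsSeparated := ⟨by rw [← terminal.comp_from (X ↘ Spec (CommRingCat.of k))]; infer_instance⟩
  obtain ⟨ι₀, _, U₀, hU₀, -, hcov₀⟩ := exists_finite_affine_cover (X := X) (W := ⊤) (by simpa using isCompact_univ)
  choose P₀ hP₀ using fun i => exists_piece (k := k) (hU₀ i)
  let e := Fintype.equivFin ι₀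
  let P : Fin (Fintype.card ι₀) → Piece k X := fun i => P₀ (e.symm i)
  have hcov : ∀ z, ∃ i, z ∈ (P i).U := fun z => by
    obtain ⟨i, hi⟩ := hcov₀ z trivial
    exact ⟨e i, by simp only [P, Equiv.symm_apply_apply, hP₀]; exact hi⟩
  have hcov' : ∀ z, ∃ r ∈ List.ofFn P, z ∈ r.U := fun z => by
    obtain ⟨i, hi⟩ := hcov z
    exact ⟨P i, List.mem_ofFn.2 ⟨i, rfl⟩, hi⟩
  haveI : ∀ i, Module.Finite Γ(X, (P i).U) (clsMod (P i)) := fun i => finite_clsMod (P i)
  obtain ⟨N, hN⟩ := exists_bound (X ↘ Spec (CommRingCat.of k)) (fun i => (P i).U) (fun i => (P i).hU)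
    (fun i l => (P i).hU.inf (P l).hU) hcov (fun i => clsMod (P i)) (fun i l => pairMod (P i) (P l))
    (fun i l => leftMap (A' := Γ(X, (P l).U)) (joint_inl (P i) (P l)) (joint_inr (P i) (P l)))
    (fun i l => rightMap (A := Γ(X, (P i).U)) (joint_inl (P i) (P l)) (joint_inr (P i) (P l)))
    (fun i l r m => leftMap_smul (joint_inl (P i) (P l)) (joint_inr (P i) (P l)) r m)
    (fun i l r m => rightMap_smul (joint_inl (P i) (P l)) (joint_inr (P i) (P l)) r m)
    (fun i l f hf m hm => exists_pow_smul_cls (P i) (P l) _ hcov' ((P i).hU.inf (P l).hU) f hf m hm)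
  refine ⟨N, fun d ζ => ?_⟩
  obtain ⟨W, hWd, hW⟩ := hN d (fun j i => Submodule.Quotient.mk (phi ζ j (P i)))
    (fun j i l => left_eq_right ζ j (P i) (P l))
  refine ⟨W, hWd, fun d' lam hlam => ?_⟩
  have hD := fun i l => exists_derivation_of_sum_mk_eq_zero
    (fun j => algebraMap k Γ(X, (P i).U) (lam l j)) (fun j => phi ζ j (P i)) (hW (lam l) (hlam l) i)
  choose b hb₁ hb₂ using fun i => exists_retract ζ lam (P i) (hD i)
  choose idx hidx using hcov
  let hs' := isSqZero_defSch (ζ.baseChange (dualNMap lam)) dualN_sqzero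
  refine ⟨fun z => up hs' (P (idx z)).U, fun z => b (idx z), eq_top_iff.2 fun p _ => ?_, fun z => hb₁ _,
    fun z => hb₂ _⟩
  obtain ⟨z, rfl⟩ := surjective_of_sqZero hs' p
  exact Opens.mem_iSup.2 ⟨z, z, hidx z, rfl⟩

end Groth.Agent.HfinProper
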