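import Groth.Agent.DefLift.LiftDim
import Groth.Agent.HfinProper.Reduce

/-!
# Locally trivial families have a globally trivial combination
-/

set_option autoImplicit false
set_option linter.style.haveILetI false
set_option linter.unusedSectionVars false
set_option backward.isDefEq.respectTransparency false
set_option maxHeartbeats 800000
universe u

open CategoryTheory CategoryTheory.Limits AlgebraicGeometry Opposite TopologicalSpace Abelian

noncomputable section

namespace Groth.Agent.HfinProper

open Groth.Agent.QC Groth.Agent.CechShRes Groth.Agent.DefLift ArtFun ArtFun.Art Groth.Agent.ArtKit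

variable {k : Type u} [Field k] {X : Scheme.{u}} [X.Over (Spec (CommRingCat.of k))]
  [QuasiSeparated (X ↘ Spec (CommRingCat.of k))]

/-- The cotangent module pulled back along the identity. -/
abbrev omegaId (X : Scheme.{u}) [X.Over (Spec (CommRingCat.of k))] : X.Modules :=
  (Scheme.Modules.pullback (𝟙 X)).obj (Omega.sheaf (X ↘ Spec (CommRingCat.of k)))

/-- A large family of first order deformations has a combination mapping to `P`. -/
theorem exists_dependent_retract [HasExt.{u} X.Modules]
    [Module.Finite k (Ext (omegaId (k := k) X) (Coh.structureModule X) 1)] {d : ℕ}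
    (hd : Module.finrank k (Ext (omegaId (k := k) X) (Coh.structureModule X) 1) < d)
    (ζ : DefSch X (X ↘ Spec (CommRingCat.of k)) (dualN k k d)) (hlift : HfinProper.HasLocalLifts ζ) :
    ∃ lam : Fin d → k, lam ≠ 0 ∧ ∃ b : (ζ.baseChange (dualNHom (formOf lam))).total ⟶ X,
      b ≫ (X ↘ Spec (CommRingCat.of k)) = (ζ.baseChange (dualNHom (formOf lam))).f ≫ specOver (Art.dual k k) ∧
      (ζ.baseChange (dualNHom (formOf lam))).i ≫ b = 𝟙 X := by
  classical
  let x := X ↘ Spec (CommRingCat.of k)
  let hs := isSqZero_defSch ζ dualN_sqzero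
  let a := ζ.f ≫ specOver (dualN k k d)
  let p := X ↘ Spec (CommRingCat.of k)
  let c : X ⟶ X := 𝟙 X
  have hsqr : c ≫ p = ζ.i ≫ a := by
    rw [← Category.assoc, ζ.i_f, Category.assoc, specRes_comp, comp_specRes_base, Category.id_comp]
  obtain ⟨U, b, hU, hb₁, hb₂⟩ := hlift
  let U' : X → X.Opens := fun j => ζ.i ⁻¹ᵁ U j
  choose ψ hψfac hψval using fun j : Fin d => exists_coord ζ (LinearMap.proj j)
  let D : Fin d → ∀ a : Fin 2 → X, OmegaSh.Der p ((Scheme.Modules.pushforward c).obj (term U' (Coh.structureModule X) a)) :=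
    fun j a' => mapDer c U' (ψ j) (diffDer hs p a c U b hb₁ hb₂ hsqr a')
  have hcov : ⨆ j, U' j = ⊤ := eq_top_iff.2 fun z _ => by
    obtain ⟨j, hj⟩ := Opens.mem_iSup.1 (hU.ge (trivial : ζ.i z ∈ (⊤ : ζ.total.Opens)))
    exact Opens.mem_iSup.2 ⟨j, hj⟩
  have hD : ∀ j (a' : Fin 3 → X) (V : X.Opens) (s : Γ(X, V)),
      ∑ l : Fin 3, (-1 : ℤ) ^ (l : ℕ) •
        QC.res (Coh.structureModule X) (cut_drop U' (c ⁻¹ᵁ V) a' l) (derVal c U' (D j (a' ∘ l.succAbove)) V s) = 0 := by
    intro j a' V s
    refine Eq.trans ?_ ((congrArg ((ψ j).app _) (diffDer_cocycle hs p a c U b hb₁ hb₂ hsqr a' V s)).trans (map_zero _))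
    rw [map_sum]
    refine Finset.sum_congr rfl fun l _ => ?_
    rw [map_zsmul, ← app_res (ψ j)]
    rfl
  obtain ⟨lam, hlam, E, hE⟩ := exists_dependence c U' hd hcov D hD
  refine ⟨lam, hlam, ?_⟩
  let g := dualNHom (Λ := k) (formOf lam)
  obtain ⟨ψ', hfac, hval⟩ := exists_coord ζ (formOf lam)
  let Ψ : Omega.conormal ζ.i ⟶ Coh.structureModule X := ∑ j, lam j • ψ j
  have happ : ∀ (C : X.Opens) (m : Γ(Omega.conormal ζ.i, C)), Ψ.app C m = ∑ j, scal C (lam j) • (ψ j).app C m := by
    intro C m
    let ev : (Omega.conormal ζ.i ⟶ Coh.structureModule X) →+ Γ(Coh.structureModule X, C) :=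
      AddMonoidHom.mk' (fun q => q.app C m) fun _ _ => rfl
    exact (map_sum ev _ _).trans (Finset.sum_congr rfl fun j _ => KLin.smul_app_apply (lam j) (ψ j) C m)
  have heq : ψ' = Ψ := by
    refine KosExt.hom_ext_affine fun C m => ?_
    obtain ⟨co, rfl⟩ := exists_repr ζ epsN (fun _ => rfl) mem_span_epsN hs C m
    rw [map_sum, map_sum]
    refine Finset.sum_congr rfl fun l _ => ?_
    rw [Scheme.Modules.Hom.app_smul, Scheme.Modules.Hom.app_smul, hval, happ, Finset.sum_eq_single l]
    · rw [hψval, LinearMap.proj_apply, Pi.single_eq_same, formOf_apply, Finset.sum_eq_single l]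
      · rw [Pi.single_eq_same, mul_one]
        refine congrArg (co l • ·) ?_
        change scal C.1 (lam l) = scal C.1 (lam l) * scalOn C.1 (1 : k)
        simp only [scalOn, map_one, mul_one]
      · intro j _ hj
        rw [Pi.single_eq_of_ne hj, mul_zero]
      · simp
    · intro j _ hj
      rw [hψval, LinearMap.proj_apply, Pi.single_eq_of_ne hj]
      simp only [scalOn, map_zero]
      exact smul_zero _
    · simp
  subst heq
  obtain ⟨b', hb', hb''⟩ := exists_lift_of_factor (DefSch.baseChange_i_fst ζ g) hs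
    (isSqZero_defSch (ζ.baseChange g) dual_sqzero) p a c U hU b hb₁ hb₂ hsqr (epsHom (ζ.baseChange g)) _ hfac
    ⟨E, fun c' V s => (happ _ _).trans (hE c' V s)⟩
  refine ⟨b', ?_, hb''⟩
  rw [hb', ← Category.assoc, pullback.condition, Category.assoc]
  exact congrArg (_ ≫ ·) (specOver_comp g)

end Groth.Agent.HfinProper
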