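import Groth.Agent.DefFun.FirstOrder
import Mathlib

/-!
# Classes of maps on ideals of presentations modulo derivations, on overlapping opens
-/

set_option autoImplicit false
set_option linter.style.haveILetI false
set_option linter.unusedSectionVars false
set_option maxHeartbeats 1000000

universe u

open TrivSqZeroExt MvPolynomial

noncomputable section

namespace Groth.Agent.HfinProper

open Groth.Agent.DefFun (kerI opModule centralScalar relN FO foQ)

section Res

variable (k P A B : Type u) [Field k] [CommRing P] [CommRing A] [CommRing B] [Algebra k P] [Algebra k B]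
  [Algebra P A] [Algebra P B] [IsScalarTower k P B] [Algebra A B] [IsScalarTower P A B]

/-- A derivation restricted to the ideal of a presentation. -/
def res : Derivation k P B →ₗ[B] (kerI P A →ₗ[P] B) where
  toFun D :=
    { toFun := fun i => D i
      map_add' := fun i j => by rw [Submodule.coe_add, map_add]
      map_smul' := fun p i => by
        rw [Submodule.coe_smul_of_tower, smul_eq_mul, D.leibniz, Algebra.smul_def (i : P),
          IsScalarTower.algebraMap_apply P A B, RingHom.mem_ker.1 i.2, map_zero, zero_mul, add_zero, RingHom.id_apply] }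
  map_add' _ _ := LinearMap.ext fun _ => rfl
  map_smul' _ _ := LinearMap.ext fun _ => rfl

theorem res_apply (D : Derivation k P B) (i : kerI P A) : res k P A B D i = D i := rfl

end Res

section Pull

variable {k P A B Q : Type u} [Field k] [CommRing P] [CommRing A] [CommRing B] [CommRing Q] [Algebra k P] [Algebra k Q]
  [Algebra P A] [Algebra P B] [Algebra A B] [IsScalarTower P A B] [Algebra Q B]
  (e : P →ₐ[k] Q) (he : ∀ p, algebraMap Q B (e p) = algebraMap P B p)

include he in
theorem mem_kerI_map {x : P} (hx : x ∈ kerI P A) : e x ∈ kerI Q B := by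
  rw [RingHom.mem_ker, he, IsScalarTower.algebraMap_apply P A B, RingHom.mem_ker.1 hx, map_zero]

/-- Maps on the ideal of the larger presentation restricted to the ideal of the smaller. -/
def pull : (kerI Q B →ₗ[Q] B) →ₗ[B] (kerI P A →ₗ[P] B) where
  toFun ψ :=
    { toFun := fun i => ψ ⟨e i, mem_kerI_map e he i.2⟩
      map_add' := fun i j => by
        rw [← map_add]
        exact congrArg ψ (Subtype.ext (map_add e (i : P) j))
      map_smul' := fun p i => by
        rw [RingHom.id_apply, Algebra.smul_def, ← he, ← Algebra.smul_def, ← map_smul]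
        exact congrArg ψ (Subtype.ext (map_mul e p i)) }
  map_add' _ _ := LinearMap.ext fun _ => rfl
  map_smul' _ _ := LinearMap.ext fun _ => rfl

theorem pull_apply (ψ : kerI Q B →ₗ[Q] B) (i : kerI P A) : pull e he ψ i = ψ ⟨e i, mem_kerI_map e he i.2⟩ := rfl

/-- Over a formally etale extension, a map on the ideal killing the ideal of the smaller presentation
is a derivation. -/
theorem exists_derivation [Algebra k A] [Algebra k B] [IsScalarTower k P A] [IsScalarTower k A B]
    [IsScalarTower k Q B] [Algebra.FormallyEtale A B] (hP : Function.Surjective (algebraMap P A))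
    (hQ : Function.Surjective (algebraMap Q B)) (ψ : kerI Q B →ₗ[Q] B) (h0 : pull (A := A) e he ψ = 0) :
    ∃ D : Derivation k Q B, res k Q B B D = ψ := by
  classical
  letI := opModule Q B
  haveI := centralScalar Q B
  let Φ : Fin 1 → (kerI Q B →ₗ[Q] B) := fun _ => ψ
  let mk : TrivSqZeroExt Q (Fin 1 → B) →+* FO Φ := Ideal.Quotient.mk (relN Φ)
  let s0 : P →+* FO Φ := mk.comp ((inlHom Q (Fin 1 → B)).comp e.toRingHom)
  have hs0 : RingHom.ker (algebraMap P A) ≤ RingHom.ker s0 := fun x hx => by
    refine Ideal.Quotient.eq_zero_iff_mem.2 ⟨⟨e x, mem_kerI_map e he hx⟩, rfl, funext fun _ => ?_⟩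
    show (0 : B) = -ψ _
    rw [← pull_apply e he ψ ⟨x, hx⟩, h0, LinearMap.zero_apply, neg_zero]
  let sA : A →+* FO Φ := (algebraMap P A).liftOfSurjective hP ⟨s0, hs0⟩
  have hsA : ∀ p, sA (algebraMap P A p) = mk (inl (e p)) := fun p =>
    RingHom.congr_fun (RingHom.liftOfSurjective_comp (algebraMap P A) hP ⟨s0, hs0⟩) p
  letI : Algebra A (FO Φ) := sA.toAlgebra
  have hq : ∀ z, foQ Φ (mk z) = algebraMap Q B (fst z) := fun z => rfl
  let q : FO Φ →ₐ[A] B :=
    { foQ Φ with
      commutes' := fun a => by
        obtain ⟨p, rfl⟩ := hP a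
        show foQ Φ (sA _) = _
        rw [hsA, hq, fst_inl, he, IsScalarTower.algebraMap_apply P A B] }
  have hqs : Function.Surjective q := fun b => by
    obtain ⟨r, rfl⟩ := hQ b
    exact ⟨mk (inl r), hq _⟩
  have hker : ∀ y, q y = 0 → ∃ b : B, y = mk (inr fun _ => b) := fun y hy => by
    obtain ⟨z, rfl⟩ := Ideal.Quotient.mk_surjective y
    refine ⟨snd z 0 + ψ ⟨fst z, (hq z).symm.trans hy⟩, Ideal.Quotient.eq.2 ⟨⟨fst z, (hq z).symm.trans hy⟩, ?_, ?_⟩⟩
    · simp
    · funext j
      rw [Fin.eq_zero j]
      simp [Φ]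
  have hinj : ∀ b b' : B, mk (inr fun _ => b) = mk (inr fun _ => b') → b = b' := fun b b' h => by
    obtain ⟨i, h1, h2⟩ := Ideal.Quotient.eq.1 h
    have hi : i = 0 := Subtype.ext (by simpa using h1.symm)
    have := congrFun h2 0
    simpa [hi, sub_eq_zero] using this
  have hnil : IsNilpotent (RingHom.ker q.toRingHom) := by
    suffices RingHom.ker q.toRingHom * RingHom.ker q.toRingHom ≤ ⊥ from
      ⟨2, le_bot_iff.1 (by rw [Submodule.pow_succ, Submodule.pow_one]; exact this)⟩
    rw [Ideal.mul_le]
    intro x hx y hy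
    obtain ⟨b, rfl⟩ := hker x hx
    obtain ⟨b', rfl⟩ := hker y hy
    rw [Ideal.mem_bot, ← map_mul, TrivSqZeroExt.inr_mul_inr, map_zero]
  let s : B →ₐ[A] FO Φ := Algebra.FormallySmooth.liftOfSurjective (AlgHom.id A B) q hqs hnil
  have hs : ∀ b, q (s b) = b := fun b =>
    Algebra.FormallySmooth.liftOfSurjective_apply (AlgHom.id A B) q hqs hnil b
  have hd : ∀ r : Q, q (mk (inl r) - s (algebraMap Q B r)) = 0 := fun r => by
    rw [map_sub, hs, sub_eq_zero]
    exact hq _
  choose d hd' using fun r => hker _ (hd r)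
  have hmul : ∀ (z : TrivSqZeroExt Q (Fin 1 → B)) (b : B),
      mk z * mk (inr fun _ => b) = mk (inr fun _ => algebraMap Q B (fst z) * b) := fun z b => by
    rw [← map_mul]
    congr 1
    refine TrivSqZeroExt.ext (by simp) (funext fun j => ?_)
    simp [Algebra.smul_def]
  let D : Derivation k Q B := Derivation.mk'
    { toFun := d
      map_add' := fun r r' => hinj _ _ (by
        rw [show (fun _ : Fin 1 => d r + d r') = (fun _ => d r) + fun _ => d r' from rfl, inr_add, map_add mk,
          ← hd', ← hd', ← hd', inl_add, map_add, map_add, map_add]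
        abel)
      map_smul' := fun c r => hinj _ _ (by
        have hc : s (algebraMap Q B (algebraMap k Q c)) = mk (inl (algebraMap k Q c)) := by
          rw [← IsScalarTower.algebraMap_apply k Q B, IsScalarTower.algebraMap_apply k A B, s.commutes]
          show sA _ = _
          rw [IsScalarTower.algebraMap_apply k P A, hsA, e.commutes]
        rw [← hd', RingHom.id_apply, Algebra.smul_def, Algebra.smul_def, map_mul, inl_mul, map_mul, map_mul, hc,
          ← mul_sub, hd', hmul, fst_inl, ← IsScalarTower.algebraMap_apply k Q B]) }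
    (fun r r' => hinj _ _ (by
      show mk (inr fun _ => d (r * r')) = mk (inr fun _ => r • d r' + r' • d r)
      rw [← hd', show (fun _ : Fin 1 => r • d r' + r' • d r) = (fun _ => algebraMap Q B r * d r') + fun _ =>
        algebraMap Q B r' * d r from funext fun _ => by simp [Algebra.smul_def], inr_add, map_add]
      obtain ⟨z, hz⟩ := Ideal.Quotient.mk_surjective (s (algebraMap Q B r'))
      have hz' : algebraMap Q B (fst z) = algebraMap Q B r' := by rw [← hq]; exact (congrArg q hz).trans (hs _)
      have e1 := hmul (inl r) (d r')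
      rw [fst_inl] at e1
      have e2 := hmul z (d r)
      rw [hz', show mk z = s (algebraMap Q B r') from hz] at e2
      rw [← e1, ← e2, ← hd', ← hd', inl_mul, map_mul, map_mul, map_mul]
      ring))
  refine ⟨D, LinearMap.ext fun x => hinj _ _ ?_⟩
  show mk (inr fun _ => d x) = _
  rw [← hd', show algebraMap Q B (x : Q) = 0 from x.2, map_zero, sub_zero]
  exact Ideal.Quotient.eq.2 ⟨x, by simp, funext fun j => by simp [Φ]⟩

end Pull

section Pair

variable {k A A' B σ τ : Type u} [Field k] [CommRing A] [CommRing A'] [CommRing B] [Algebra k A] [Algebra k A']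
  [Algebra k B] [Algebra A B] [Algebra A' B] [IsScalarTower k A B] [IsScalarTower k A' B]
  [Algebra (MvPolynomial σ k) A] [Algebra (MvPolynomial τ k) A'] [IsScalarTower k (MvPolynomial σ k) A]
  [IsScalarTower k (MvPolynomial τ k) A'] [Algebra (MvPolynomial σ k) B] [Algebra (MvPolynomial τ k) B]
  [IsScalarTower (MvPolynomial σ k) A B] [IsScalarTower (MvPolynomial τ k) A' B]
  [IsScalarTower k (MvPolynomial σ k) B] [IsScalarTower k (MvPolynomial τ k) B]
  [Algebra (MvPolynomial (σ ⊕ τ) k) B] [IsScalarTower k (MvPolynomial (σ ⊕ τ) k) B]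
  (hl : ∀ p, algebraMap (MvPolynomial (σ ⊕ τ) k) B (rename Sum.inl p) = algebraMap (MvPolynomial σ k) B p)
  (hr : ∀ p, algebraMap (MvPolynomial (σ ⊕ τ) k) B (rename Sum.inr p) = algebraMap (MvPolynomial τ k) B p)

/-- The ambient module of two presentations. -/
abbrev PairHom (k A A' B σ τ : Type u) [CommRing k] [CommRing A] [CommRing A'] [CommRing B]
    [Algebra (MvPolynomial σ k) A] [Algebra (MvPolynomial τ k) A'] [Algebra (MvPolynomial σ k) B]
    [Algebra (MvPolynomial τ k) B] : Type u :=
  (kerI (MvPolynomial σ k) A →ₗ[MvPolynomial σ k] B) × (kerI (MvPolynomial τ k) A' →ₗ[MvPolynomial τ k] B)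

/-- Pairs of classes coming from the joint presentation. -/
def pairRel : Submodule B (PairHom k A A' B σ τ) :=
  LinearMap.range ((pull (rename Sum.inl) hl).prod (pull (rename Sum.inr) hr)) ⊔
    (LinearMap.range (res k (MvPolynomial σ k) A B)).prod (LinearMap.range (res k (MvPolynomial τ k) A' B))

theorem pair_mem (ψ : kerI (MvPolynomial (σ ⊕ τ) k) B →ₗ[MvPolynomial (σ ⊕ τ) k] B) :
    ((pull (rename Sum.inl) hl ψ, pull (rename Sum.inr) hr ψ) : PairHom k A A' B σ τ) ∈ pairRel hl hr :=
  Submodule.mem_sup_left ⟨ψ, rfl⟩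

/-- A related pair with vanishing second component has a derivation as first component. -/
theorem exists_of_mem_pairRel [Algebra.FormallyEtale A' B]
    (hA' : Function.Surjective (algebraMap (MvPolynomial τ k) A'))
    (hQ : Function.Surjective (algebraMap (MvPolynomial (σ ⊕ τ) k) B))
    (φ : kerI (MvPolynomial σ k) A →ₗ[MvPolynomial σ k] B)
    (h : ((φ, 0) : PairHom k A A' B σ τ) ∈ pairRel hl hr) :
    ∃ D, res k (MvPolynomial σ k) A B D = φ := by
  obtain ⟨_, ⟨ψ, rfl⟩, ⟨d₁, d₂⟩, ⟨⟨D₁, hD₁⟩, ⟨D₂, hD₂⟩⟩, hsum⟩ := Submodule.mem_sup.1 h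
  obtain ⟨h1, h2⟩ := Prod.ext_iff.1 hsum
  let D : Derivation k (MvPolynomial (σ ⊕ τ) k) B :=
    mkDerivation k (Sum.elim (fun i => D₁ (X i)) fun i => D₂ (X i))
  have hDl : ∀ p, D (rename Sum.inl p) = D₁ p := fun p => by
    induction p using MvPolynomial.induction_on with
    | C c => rw [rename_C]; simp [← MvPolynomial.algebraMap_eq]
    | add p q hp hq => rw [map_add, map_add, map_add, hp, hq]
    | mul_X p i hp =>
      rw [map_mul, rename_X, D.leibniz, D₁.leibniz, hp, show D (X (Sum.inl i)) = D₁ (X i) from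
        mkDerivation_X k _ _, Algebra.smul_def, Algebra.smul_def, hl, Algebra.smul_def, Algebra.smul_def,
        show (X (Sum.inl i) : MvPolynomial (σ ⊕ τ) k) = rename Sum.inl (X i) from (rename_X _ _).symm, hl]
  have hDr : ∀ p, D (rename Sum.inr p) = D₂ p := fun p => by
    induction p using MvPolynomial.induction_on with
    | C c => rw [rename_C]; simp [← MvPolynomial.algebraMap_eq]
    | add p q hp hq => rw [map_add, map_add, map_add, hp, hq]
    | mul_X p i hp =>
      rw [map_mul, rename_X, D.leibniz, D₂.leibniz, hp, show D (X (Sum.inr i)) = D₂ (X i) from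
        mkDerivation_X k _ _, Algebra.smul_def, Algebra.smul_def, hr, Algebra.smul_def, Algebra.smul_def,
        show (X (Sum.inr i) : MvPolynomial (σ ⊕ τ) k) = rename Sum.inr (X i) from (rename_X _ _).symm, hr]
  obtain ⟨E, hE⟩ := exists_derivation (rename Sum.inr) hr hA' hQ
    (ψ + res k (MvPolynomial (σ ⊕ τ) k) B B D) (LinearMap.ext fun i => by
      rw [map_add, LinearMap.add_apply, pull_apply, pull_apply, res_apply, hDr, LinearMap.zero_apply]
      have := LinearMap.congr_fun h2 i
      simp only [Prod.snd_add, LinearMap.add_apply] at this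
      rw [show d₂ = _ from hD₂.symm] at this
      exact this)
  refine ⟨Derivation.mk'
    { toFun := fun p => E (rename Sum.inl p)
      map_add' := fun p q => by rw [map_add, map_add]
      map_smul' := fun c p => by rw [map_smul (rename Sum.inl : MvPolynomial σ k →ₐ[k] _), E.map_smul, RingHom.id_apply] }
    (fun p q => by
      show E (rename Sum.inl (p * q)) = p • E (rename Sum.inl q) + q • E (rename Sum.inl p)
      rw [map_mul, E.leibniz, Algebra.smul_def, Algebra.smul_def, hl, hl, Algebra.smul_def, Algebra.smul_def]),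
    LinearMap.ext fun i => ?_⟩
  show E (rename Sum.inl (i : MvPolynomial σ k)) = φ i
  have h3 := LinearMap.congr_fun hE ⟨_, mem_kerI_map (rename Sum.inl) hl i.2⟩
  rw [res_apply] at h3
  have h4 := LinearMap.congr_fun h1 i
  simp only [Prod.fst_add, LinearMap.add_apply] at h4
  rw [show d₁ = _ from hD₁.symm] at h4
  rw [h3, LinearMap.add_apply, res_apply, hDl]
  exact h4

end Pair

section Away

variable {k A B σ : Type u} [Field k] [CommRing A] [CommRing B] [Algebra k A] [Algebra k B] [Algebra A B]
  [IsScalarTower k A B] [Algebra (MvPolynomial σ k) A] [IsScalarTower k (MvPolynomial σ k) A]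
  [Algebra (MvPolynomial σ k) B] [IsScalarTower (MvPolynomial σ k) A B] [IsScalarTower k (MvPolynomial σ k) B]
  [Finite σ]

/-- A class which is a derivation after inverting a function is killed by a power of it. -/
theorem exists_pow_smul_eq_res (f : A) [IsLocalization.Away f B]
    (φ : kerI (MvPolynomial σ k) A →ₗ[MvPolynomial σ k] A) (D : Derivation k (MvPolynomial σ k) B)
    (h : ∀ i : kerI (MvPolynomial σ k) A, D i = algebraMap A B (φ i)) :
    ∃ (N : ℕ) (D₀ : Derivation k (MvPolynomial σ k) A), res k (MvPolynomial σ k) A A D₀ = f ^ N • φ := by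
  classical
  cases nonempty_fintype σ
  obtain ⟨⟨s, hs⟩, hm⟩ := IsLocalization.exist_integer_multiples_of_finite (S := B) (Submonoid.powers f)
    fun i => D (X i)
  obtain ⟨n, rfl⟩ := hs
  choose a ha using hm
  let D₀ : Derivation k (MvPolynomial σ k) A := mkDerivation k a
  have hD : ∀ p, algebraMap A B (D₀ p) = algebraMap A B (f ^ n) * D p := fun p => by
    induction p using MvPolynomial.induction_on with
    | C c => simp [← MvPolynomial.algebraMap_eq]
    | add p q hp hq => rw [map_add, map_add, map_add, hp, hq, mul_add]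
    | mul_X p i hp =>
      have hi : algebraMap A B (D₀ (X i)) = algebraMap A B (f ^ n) * D (X i) := by
        rw [show D₀ (X i) = a i from mkDerivation_X k _ _, ha, Algebra.smul_def]
      rw [D₀.leibniz, D.leibniz, map_add, Algebra.smul_def, Algebra.smul_def, Algebra.smul_def, Algebra.smul_def,
        map_mul, map_mul, hp, hi, ← IsScalarTower.algebraMap_apply, ← IsScalarTower.algebraMap_apply]
      ring
  have hex : ∀ i : kerI (MvPolynomial σ k) A, ∃ m : ℕ, f ^ m * (f ^ n * φ i - D₀ i) = 0 := fun i => by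
    have h0 : algebraMap A B (f ^ n * φ i) = algebraMap A B (D₀ i) := by rw [map_mul, hD, h]
    obtain ⟨⟨_, m, rfl⟩, hc⟩ := (IsLocalization.eq_iff_exists (Submonoid.powers f) B).1 h0
    exact ⟨m, by rw [mul_sub, hc, sub_self]⟩
  obtain ⟨S, hS⟩ := IsNoetherian.noetherian (kerI (MvPolynomial σ k) A)
  choose m hm' using hex
  let gen : S → kerI (MvPolynomial σ k) A := fun x => ⟨x.1, hS ▸ Submodule.subset_span x.2⟩
  let M := Finset.univ.sup fun x : S => m (gen x)
  refine ⟨M + n, f ^ M • D₀, LinearMap.ext fun i => ?_⟩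
  suffices hi : ∀ x (hx : x ∈ kerI (MvPolynomial σ k) A), f ^ M * (f ^ n * φ ⟨x, hx⟩ - D₀ x) = 0 by
    have h4 := hi i.1 i.2
    rw [mul_sub, sub_eq_zero] at h4
    show f ^ M * D₀ i = f ^ (M + n) * φ i
    rw [pow_add, mul_assoc]
    exact h4.symm
  intro x hx
  have hx' : x ∈ Submodule.span (MvPolynomial σ k) (S : Set (MvPolynomial σ k)) := hS.symm ▸ hx
  induction hx' using Submodule.span_induction with
  | mem y hy =>
    obtain ⟨j, hj⟩ := Nat.exists_eq_add_of_le
      (Finset.le_sup (f := fun z : S => m (gen z)) (Finset.mem_univ (⟨y, hy⟩ : S)))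
    show f ^ M * _ = 0
    rw [show M = m (gen ⟨y, hy⟩) + j from hj, pow_add, mul_comm (f ^ m (gen ⟨y, hy⟩)), mul_assoc]
    exact (congrArg (f ^ j * ·) (hm' (gen ⟨y, hy⟩))).trans (mul_zero _)
  | zero =>
    rw [show (⟨0, hx⟩ : kerI (MvPolynomial σ k) A) = 0 from rfl, map_zero, map_zero]
    simp
  | add y z hy hz hy' hz' =>
    have h1 : y ∈ kerI (MvPolynomial σ k) A := hS ▸ hy
    have h2 : z ∈ kerI (MvPolynomial σ k) A := hS ▸ hz
    rw [show (⟨y + z, hx⟩ : kerI (MvPolynomial σ k) A) = ⟨y, h1⟩ + ⟨z, h2⟩ from rfl, map_add, map_add]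
    linear_combination hy' h1 + hz' h2
  | smul c y hy hy' =>
    have h1 : y ∈ kerI (MvPolynomial σ k) A := hS ▸ hy
    rw [show (⟨c • y, hx⟩ : kerI (MvPolynomial σ k) A) = c • ⟨y, h1⟩ from rfl, map_smul, smul_eq_mul, D₀.leibniz,
      Algebra.smul_def c, Algebra.smul_def c, Algebra.smul_def y, RingHom.mem_ker.1 h1, zero_mul, add_zero]
    linear_combination algebraMap (MvPolynomial σ k) A c * hy' h1

end Away

end Groth.Agent.HfinProper
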