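import Groth.Agent.HfinProper.Dependent
import Groth.Agent.S7277
import Groth.Agent.DefLift.Twisted
import Groth.Agent.DefFun.AutLift
import Groth.Agent.DefFun.Hull
import Groth.Agent.KrullSch.Coherent
import Groth.Agent.PnHodge.ExtCoh
import Groth.Agent.SerrePn.SheafHomExt
import Groth.Agent.Devissage.Piece
import Mathlib.Algebra.Homology.DerivedCategory.Ext.Linear

/-!
# The deformation functor of a proper scheme has a hull
-/

set_option autoImplicit false
set_option linter.style.haveILetI false
set_option linter.unusedSectionVars false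
set_option backward.isDefEq.respectTransparency false
set_option backward.isDefEq.respectTransparency.types false
set_option maxHeartbeats 800000
universe u

open CategoryTheory CategoryTheory.Limits AlgebraicGeometry Opposite Abelian

attribute [local instance] HasDerivedCategory.standard

noncomputable section

namespace Groth.Agent.HfinProper

open Groth.Agent.DefLift Groth.Agent.DefFun ArtFun ArtFun.Art Groth.Agent.ArtKit

variable {Λ k : Type u} [CommRing Λ] [Field k] [Algebra Λ k]

section Conv

variable {X : Scheme.{u}} {x : X ⟶ specPt k}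

/-- A deformation over `k[ε_1, …, ε_d]`, forgetting the coefficient ring. -/
@[reducible] def convN {d : ℕ} (ξ : DefSch X x (dualN Λ k d)) : DefSch X x (dualN k k d) :=
  { total := ξ.total, f := ξ.f, flat := ξ.flat, i := ξ.i, isPullback := ξ.isPullback }

/-- A deformation over `k[ε]`, forgetting the coefficient ring. -/
@[reducible] def convD (ξ : DefSch X x (Art.dual Λ k)) : DefSch X x (Art.dual k k) :=
  { total := ξ.total, f := ξ.f, flat := ξ.flat, i := ξ.i, isPullback := ξ.isPullback }

/-- The map given by a tuple of vectors. -/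
def dualNMap' {d d' : ℕ} (lam : Fin d' → Fin d → k) : dualN Λ k d ⟶ dualN Λ k d' :=
  ⟨Art.tszeMap (LinearMap.pi fun l => formOf (lam l)), AlgHom.ext fun _ => rfl⟩

end Conv

variable {X : Scheme.{u}} [X.Over (Spec (CommRingCat.of k))]

/-- A retraction makes a first order deformation trivial. -/
theorem map_baseToDual_eq_of_retract (η : DefSch X (X ↘ Spec (CommRingCat.of k)) (Art.dual Λ k))
    (b : η.total ⟶ X) (hb : b ≫ (X ↘ Spec (CommRingCat.of k)) = (convD η).f ≫ specOver (Art.dual k k))
    (hi : η.i ≫ b = 𝟙 X) :
    (defFunctor (Λ := Λ) X (X ↘ Spec (CommRingCat.of k))).map Art.baseToDual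
        (DefSch.self X (X ↘ Spec (CommRingCat.of k)) (DefFun.flat_of_field _)).cl = η.cl := by
  let x := X ↘ Spec (CommRingCat.of k)
  let ξ := DefSch.self (Λ := k) X x (DefFun.flat_of_field _)
  obtain ⟨c, hc⟩ := Loc.exists_cart_of_hom (Art.baseToDual : Art.base k k ⟶ Art.dual k k) (η := convD η) (ξ := ξ) b
    (by
      show b ≫ x = (convD η).f ≫ specMap (Art.baseToDual : Art.base k k ⟶ Art.dual k k)
      rw [hb, show (Art.baseToDual : Art.base k k ⟶ Art.dual k k) = ofBase (Art.dual k k) from
        Art.hom_ext (AlgHom.ext fun _ => rfl)]) hi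
  exact Cart.cl_eq (g := (Art.baseToDual : Art.base Λ k ⟶ Art.dual Λ k)) (η := η)
    (ξ := DefSch.self X x (DefFun.flat_of_field _)) ⟨b, hc ▸ c.h, hi⟩

theorem finite_ext_omega [IsProper (X ↘ Spec (CommRingCat.of k))] [HasExt.{u} X.Modules] :
    Module.Finite k (Ext (omegaId (k := k) X) (Coh.structureModule X) 1) := by
  haveI : IsLocallyNoetherian X := LocallyOfFiniteType.isLocallyNoetherian (X ↘ Spec (CommRingCat.of k))
  have hF : Coh.IsCoh (omegaId (k := k) X) :=
    QC.isCoh_pullback _ (PnHodge.ExtCoh.isCoh_omega (X ↘ Spec (CommRingCat.of k)))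
  have h := S7277.result k X (DCoh.inD X (omegaId (k := k) X)) (DCoh.inD X (Coh.structureModule X))
    (KrullSch.isCohD_inD (k := k) hF) ⟨0, inferInstance⟩ (KrullSch.isCohD_inD (k := k) (Devissage.isCoh_unit _))
    ⟨0, inferInstance⟩ ((1 : ℕ) : ℤ)
  exact Module.Finite.equiv (Ext.homLinearEquiv (R := k)).symm

/-- The deformation functor of a proper scheme has finite tangent space. -/
theorem hfin_of_proper [IsProper (X ↘ Spec (CommRingCat.of k))]
    [TangentStr (defFunctor (Λ := Λ) X (X ↘ Spec (CommRingCat.of k)))] :
    Hfin (defFunctor (Λ := Λ) X (X ↘ Spec (CommRingCat.of k))) := by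
  classical
  haveI : IsLocallyNoetherian X := LocallyOfFiniteType.isLocallyNoetherian (X ↘ Spec (CommRingCat.of k))
  haveI := SerrePn.enoughInjectives (X := X)
  haveI : HasExt.{u} X.Modules := hasExt_of_enoughInjectives _
  haveI := finite_ext_omega (k := k) (X := X)
  let x := X ↘ Spec (CommRingCat.of k)
  let F := defFunctor (Λ := Λ) X x
  obtain ⟨N, hN⟩ := exists_bound_lifts (k := k) (X := X)
  let h := Module.finrank k (Ext (omegaId (k := k) X) (Coh.structureModule X) 1)
  have hrank : Module.rank k (TangentSpace F) ≤ (N + h : ℕ) := by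
    refine rank_le fun s hs => ?_
    by_contra hlt
    rw [not_le] at hlt
    let θ : Fin s.card → TangentSpace F := fun j => (s.equivFin.symm j : TangentSpace F)
    have hθ : LinearIndependent k θ := hs.comp _ s.equivFin.symm.injective
    obtain ⟨z, hz⟩ := exists_dualN_elt (DefFun.h0 X _) (DefFun.heps X _) s.card fun j => TangentSpace.val (θ j)
    induction z using Quotient.inductionOn with
    | h ζ =>
    obtain ⟨W, hW, hlifts⟩ := hN s.card (convN ζ)
    have hh : h + 1 ≤ Module.finrank k W := by omega
    let bW := Module.finBasis k W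
    let lam : Fin (h + 1) → Fin s.card → k := fun l => (bW (Fin.castLE hh l) : Fin s.card → k)
    have hlam : LinearIndependent k lam := by
      have h1 := (bW.linearIndependent.comp (Fin.castLE hh) (Fin.castLE_injective hh)).map' W.subtype W.ker_subtype
      exact h1
    let ζ' := ζ.baseChange (dualNMap' lam)
    have hl : HasLocalLifts (convN ζ') := hlifts (h + 1) lam fun l => (bW (Fin.castLE hh l)).2
    obtain ⟨mu, hmu, b, hb, hi⟩ := exists_dependent_retract (d := h + 1) (Nat.lt_succ_self _) (convN ζ') hl
    have h0 := map_baseToDual_eq_of_retract (ζ'.baseChange (dualNHom (formOf mu))) b hb hi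
    let v : Fin s.card → k := ∑ l, mu l • lam l
    have hev : evalForms (F := F) ζ.cl (formOf v) = 0 := by
      show TangentSpace.mk (F.map (dualNHom (formOf v)) ζ.cl) = 0
      rw [show dualNHom (Λ := Λ) (formOf v) = dualNMap' lam ≫ dualNHom (formOf mu) from dual_hom_ext fun y => by
        show formOf v _ = formOf mu ((LinearMap.pi fun l => formOf (lam l)) _)
        simp only [formOf_apply, LinearMap.pi_apply, v, Finset.sum_apply, Pi.smul_apply, smul_eq_mul,
          Finset.sum_mul, Finset.mul_sum, mul_assoc]
        exact Finset.sum_comm, map_comp_app]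
      show TangentSpace.mk ((ζ.baseChange (dualNMap' lam)).baseChange (dualNHom (formOf mu))).cl = 0
      rw [← h0]
      exact tangent_zero (DefFun.h0 X x) _
    have hv : ∑ j, v j • θ j = 0 := by
      refine Eq.trans ?_ hev
      rw [formOf, map_sum]
      refine Finset.sum_congr rfl fun j _ => ?_
      rw [map_smul]
      exact congrArg (v j • ·) (congrArg TangentSpace.mk (hz j)).symm
    have hv0 : v = 0 := funext fun j => Fintype.linearIndependent_iff.1 hθ v hv j
    exact hmu (funext fun l => Fintype.linearIndependent_iff.1 hlam mu hv0 l)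
  exact Module.rank_lt_aleph0_iff.1 (hrank.trans_lt Cardinal.natCast_lt_aleph0)

/-- The deformation functor of a proper scheme has a hull. -/
theorem hasHull_of_proper [IsLocalRing Λ] [IsNoetherianRing Λ] [IsAdicComplete (IsLocalRing.maximalIdeal Λ) Λ]
    (hk : Function.Surjective (algebraMap Λ k)) [IsProper (X ↘ Spec (CommRingCat.of k))] :
    HasHull (defFunctor (Λ := Λ) X (X ↘ Spec (CommRingCat.of k))) := by
  haveI : Module.Finite Λ k := Module.Finite.of_surjective (Algebra.linearMap Λ k) hk
  let Fn := defFunctor (Λ := Λ) X (X ↘ Spec (CommRingCat.of k))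
  have h0 : H0 Fn := DefFun.h0 _ _
  have h2 : Heps Fn := DefFun.heps _ _
  obtain ⟨T⟩ := ArtKit.nonempty_tangentStr h0 h2
  letI := T
  refine ArtKit.hasHull_of_free h0 (DefFun.s1 _ _) h2 hfin_of_proper fun σ σ' _ => ?_
  refine Art.hom_ext (AlgHom.ext fun a => ?_)
  obtain ⟨r, rfl⟩ := hk a
  exact (σ.toAlgHom.commutes r).trans (σ'.toAlgHom.commutes r).symm

end Groth.Agent.HfinProper
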