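import Groth.Agent.HfinProper.Local

/-!
# Classes on two affine pieces compared on their intersection
-/

set_option autoImplicit false
set_option linter.style.haveILetI false
set_option linter.unusedSectionVars false
set_option maxHeartbeats 1000000

universe u

open MvPolynomial

noncomputable section

namespace Groth.Agent.HfinProper

open Groth.Agent.DefFun (kerI)

section One

variable (k P A : Type u) [Field k] [CommRing P] [CommRing A] [Algebra k P] [Algebra k A] [Algebra P A]
  [IsScalarTower k P A]

/-- Maps on the ideal of a presentation modulo derivations. -/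
abbrev Cls : Type u := (kerI P A →ₗ[P] A) ⧸ LinearMap.range (res k P A A)

variable {k P A}

theorem finite_cls [IsNoetherianRing P] [IsNoetherianRing A] : Module.Finite A (Cls k P A) := by
  obtain ⟨S, hS⟩ := IsNoetherian.noetherian (kerI P A)
  let gen : ↥S → kerI P A := fun y => ⟨y.1, hS ▸ Submodule.subset_span y.2⟩
  let ev : (kerI P A →ₗ[P] A) →ₗ[A] (↥S → A) :=
    { toFun := fun φ y => φ (gen y), map_add' := fun _ _ => rfl, map_smul' := fun _ _ => rfl }
  haveI : Module.Finite A (kerI P A →ₗ[P] A) := by
    refine Module.Finite.of_injective ev fun φ ψ h => LinearMap.ext fun i => ?_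
    obtain ⟨y, hy⟩ := i
    have hy' : y ∈ Submodule.span P (S : Set P) := hS.symm ▸ hy
    induction hy' using Submodule.span_induction with
    | mem z hz => exact congrFun h ⟨z, hz⟩
    | zero => exact (map_zero φ).trans (map_zero ψ).symm
    | add a b ha hb ha' hb' =>
      have h1 : a ∈ kerI P A := hS ▸ ha
      have h2 : b ∈ kerI P A := hS ▸ hb
      rw [show (⟨a + b, hy⟩ : kerI P A) = ⟨a, h1⟩ + ⟨b, h2⟩ from rfl, map_add, map_add, ha' h1, hb' h2]
    | smul c a ha ha' =>
      have h1 : a ∈ kerI P A := hS ▸ ha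
      rw [show (⟨c • a, hy⟩ : kerI P A) = c • ⟨a, h1⟩ from rfl, map_smul, map_smul, ha' h1]
  infer_instance

/-- A vanishing combination of classes is a derivation on the ideal. -/
theorem exists_derivation_of_sum_mk_eq_zero {ι : Type*} [Fintype ι] (c : ι → A) (φ : ι → (kerI P A →ₗ[P] A))
    (h : ∑ j, c j • (Submodule.Quotient.mk (φ j) : Cls k P A) = 0) :
    ∃ D : Derivation k P A, ∀ i : kerI P A, D i = ∑ j, c j * φ j i := by
  have h' : (Submodule.Quotient.mk (∑ j, c j • φ j) : Cls k P A) = 0 := by
    refine Eq.trans ?_ h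
    rw [← Submodule.mkQ_apply, map_sum]
    exact Finset.sum_congr rfl fun j _ => map_smul _ _ _
  obtain ⟨D, hD⟩ := (Submodule.Quotient.mk_eq_zero _).1 h'
  refine ⟨D, fun i => ?_⟩
  have h1 := LinearMap.congr_fun hD i
  rw [res_apply, LinearMap.sum_apply] at h1
  exact h1

end One

section Push

variable (P : Type u) {A B : Type u} [CommRing P] [CommRing A] [CommRing B] [Algebra P A] [Algebra A B] [Algebra P B]
  [IsScalarTower P A B]

/-- A map on the ideal with values pushed along the algebra. -/
def push (φ : kerI P A →ₗ[P] A) : kerI P A →ₗ[P] B :=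
  (IsScalarTower.toAlgHom P A B).toLinearMap ∘ₗ φ

theorem push_apply (φ : kerI P A →ₗ[P] A) (i : kerI P A) : push P φ i = algebraMap A B (φ i) := rfl

theorem push_smul (r : A) (φ : kerI P A →ₗ[P] A) : push P (B := B) (r • φ) = algebraMap A B r • push P φ :=
  LinearMap.ext fun i => by
    rw [push_apply, LinearMap.smul_apply, LinearMap.smul_apply, push_apply, smul_eq_mul, smul_eq_mul, map_mul]

theorem push_add (φ ψ : kerI P A →ₗ[P] A) : push P (B := B) (φ + ψ) = push P φ + push P ψ :=
  LinearMap.ext fun i => map_add (algebraMap A B) (φ i) (ψ i)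

theorem push_zero : push P (A := A) (B := B) 0 = 0 :=
  LinearMap.ext fun _ => map_zero (algebraMap A B)

end Push

section Pair

variable {k A A' B σ τ : Type u} [Field k] [CommRing A] [CommRing A'] [CommRing B] [Algebra k A] [Algebra k A']
  [Algebra k B] [Algebra A B] [Algebra A' B] [IsScalarTower k A B] [IsScalarTower k A' B]
  [Algebra (MvPolynomial σ k) A] [Algebra (MvPolynomial τ k) A'] [IsScalarTower k (MvPolynomial σ k) A]
  [IsScalarTower k (MvPolynomial τ k) A'] [Algebra (MvPolynomial σ k) B] [Algebra (MvPolynomial τ k) B]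
  [IsScalarTower (MvPolynomial σ k) A B] [IsScalarTower (MvPolynomial τ k) A' B]
  [IsScalarTower k (MvPolynomial σ k) B] [IsScalarTower k (MvPolynomial τ k) B]
  [Algebra (MvPolynomial (σ ⊕ τ) k) B] [IsScalarTower k (MvPolynomial (σ ⊕ τ) k) B]
  (hl : ∀ p, algebraMap (MvPolynomial (σ ⊕ τ) k) B (rename Sum.inl p) = algebraMap (MvPolynomial σ k) B p)
  (hr : ∀ p, algebraMap (MvPolynomial (σ ⊕ τ) k) B (rename Sum.inr p) = algebraMap (MvPolynomial τ k) B p)

variable (A A') in
/-- Classes on the intersection. -/
abbrev PairCls : Type u := PairHom k A A' B σ τ ⧸ pairRel (A := A) (A' := A') hl hr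

/-- The first piece seen on the intersection. -/
def leftMap : Cls k (MvPolynomial σ k) A →+ PairCls A A' hl hr :=
  QuotientAddGroup.lift (LinearMap.range (res k (MvPolynomial σ k) A A)).toAddSubgroup
    (AddMonoidHom.mk' (fun φ => (pairRel (A := A) (A' := A') hl hr).mkQ (push _ (B := B) φ, 0)) fun φ ψ => by
      rw [← map_add, Prod.mk_add_mk, add_zero, push_add])
    (by
      rintro _ ⟨D, rfl⟩
      refine (Submodule.Quotient.mk_eq_zero _).2 (Submodule.mem_sup_right ⟨⟨
        (IsScalarTower.toAlgHom (MvPolynomial σ k) A B).toLinearMap.compDer D, LinearMap.ext fun _ => rfl⟩,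
        zero_mem _⟩))

/-- The second piece seen on the intersection, negated. -/
def rightMap : Cls k (MvPolynomial τ k) A' →+ PairCls A A' hl hr :=
  QuotientAddGroup.lift (LinearMap.range (res k (MvPolynomial τ k) A' A')).toAddSubgroup
    (AddMonoidHom.mk' (fun φ => (pairRel (A := A) (A' := A') hl hr).mkQ (0, -push _ (B := B) φ)) fun φ ψ => by
      rw [← map_add, Prod.mk_add_mk, add_zero, push_add, neg_add])
    (by
      rintro _ ⟨D, rfl⟩
      refine (Submodule.Quotient.mk_eq_zero _).2 (Submodule.mem_sup_right ⟨zero_mem _,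
        Submodule.neg_mem _ ⟨(IsScalarTower.toAlgHom (MvPolynomial τ k) A' B).toLinearMap.compDer D,
          LinearMap.ext fun _ => rfl⟩⟩))

theorem leftMap_smul (r : A) (m : Cls k (MvPolynomial σ k) A) :
    leftMap (A' := A') hl hr (r • m) = algebraMap A B r • leftMap (A' := A') hl hr m := by
  obtain ⟨φ, rfl⟩ := Submodule.Quotient.mk_surjective _ m
  show (pairRel (A := A) (A' := A') hl hr).mkQ (push _ (B := B) (r • φ), 0) = algebraMap A B r • (pairRel (A := A) (A' := A') hl hr).mkQ (push _ (B := B) φ, 0)
  rw [← map_smul, Prod.smul_mk, smul_zero, push_smul]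

theorem rightMap_smul (r : A') (m : Cls k (MvPolynomial τ k) A') :
    rightMap (A := A) hl hr (r • m) = algebraMap A' B r • rightMap (A := A) hl hr m := by
  obtain ⟨φ, rfl⟩ := Submodule.Quotient.mk_surjective _ m
  show (pairRel (A := A) (A' := A') hl hr).mkQ (0, -push _ (B := B) (r • φ)) = algebraMap A' B r • (pairRel (A := A) (A' := A') hl hr).mkQ (0, -push _ (B := B) φ)
  rw [← map_smul, Prod.smul_mk, smul_zero, push_smul, smul_neg]

/-- Classes coming from one map on the joint presentation agree on the intersection. -/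
theorem leftMap_eq_rightMap (φ : kerI (MvPolynomial σ k) A →ₗ[MvPolynomial σ k] A)
    (φ' : kerI (MvPolynomial τ k) A' →ₗ[MvPolynomial τ k] A')
    (ψ : kerI (MvPolynomial (σ ⊕ τ) k) B →ₗ[MvPolynomial (σ ⊕ τ) k] B)
    (h : pull (rename Sum.inl) hl ψ = push _ φ) (h' : pull (rename Sum.inr) hr ψ = push _ φ') :
    leftMap (A' := A') hl hr (Submodule.Quotient.mk φ) = rightMap (A := A) hl hr (Submodule.Quotient.mk φ') := by
  refine (Submodule.Quotient.eq _).2 ?_
  rw [Prod.mk_sub_mk, sub_zero, zero_sub, neg_neg, ← h, ← h']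
  exact pair_mem hl hr ψ

/-- The first piece injects after inverting a function supported on the intersection. -/
theorem exists_pow_smul_eq_zero [Finite σ] [Algebra.FormallyEtale A' B]
    (hA' : Function.Surjective (algebraMap (MvPolynomial τ k) A'))
    (hQ : Function.Surjective (algebraMap (MvPolynomial (σ ⊕ τ) k) B))
    {C : Type u} [CommRing C] [Algebra k C] [Algebra A C] [IsScalarTower k A C] [Algebra (MvPolynomial σ k) C]
    [IsScalarTower (MvPolynomial σ k) A C] [IsScalarTower k (MvPolynomial σ k) C]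
    [Algebra B C] [IsScalarTower A B C] (f : A) [IsLocalization.Away f C]
    (m : Cls k (MvPolynomial σ k) A) (hm : leftMap (A' := A') hl hr m = 0) : ∃ n : ℕ, f ^ n • m = 0 := by
  obtain ⟨φ, rfl⟩ := Submodule.Quotient.mk_surjective _ m
  obtain ⟨D, hD⟩ := exists_of_mem_pairRel hl hr hA' hQ (push _ φ) ((Submodule.Quotient.mk_eq_zero _).1 hm)
  haveI : IsScalarTower (MvPolynomial σ k) B C := IsScalarTower.of_algebraMap_eq fun p => by
    rw [IsScalarTower.algebraMap_apply (MvPolynomial σ k) A B, ← IsScalarTower.algebraMap_apply A B C,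
      ← IsScalarTower.algebraMap_apply]
  obtain ⟨N, D₀, hD₀⟩ := exists_pow_smul_eq_res f φ
    ((IsScalarTower.toAlgHom (MvPolynomial σ k) B C).toLinearMap.compDer D) fun i => by
      show algebraMap B C (D i) = _
      rw [show D i = algebraMap A B (φ i) from LinearMap.congr_fun hD i, ← IsScalarTower.algebraMap_apply]
  exact ⟨N, by rw [← Submodule.Quotient.mk_smul, Submodule.Quotient.mk_eq_zero]; exact ⟨D₀, hD₀⟩⟩

end Pair

end Groth.Agent.HfinProper
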